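import Cfsg.Agent.Lib.USixMult.MultThree
import Cfsg.Agent.Lib.Leech.Sub.Split

/-! Kernel checks of the table for the prime 3. -/

set_option autoImplicit false
-- the pieces are checked one after another, which keeps the peak memory low
set_option Elab.async false
set_option maxRecDepth 100000

namespace CfsgLib.USixMult

open CfsgLib.Schur.LinTable CfsgLib.Schur.PermTableWide CfsgLib.Leech

theorem tabThree_ok : sylTab_three.ok = true := by decide +kernel

theorem latThree_ok : sylTab_three.autOK autCert_three = true := by decide +kernel

theorem headThree_ok : link_three.headOK pElts sylTab_three = true := by decide +kernel

theorem elThree_0 : pieceOK 150 (List.range sylTab_three.N) (link_three.elAt pElts sylTab_three) 0 = true := by decide +kernel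

theorem elThree_1 : pieceOK 150 (List.range sylTab_three.N) (link_three.elAt pElts sylTab_three) 1 = true := by decide +kernel

theorem elThree_all : (List.range sylTab_three.N).all (link_three.elAt pElts sylTab_three) = true :=
  all_of_pieces (n := 150) (m := 2) (by decide +kernel) fun i hi =>
    match i, hi with
    | 0, _ => elThree_0
    | 1, _ => elThree_1
    | j + 2, h => absurd h (by omega)

theorem conjThree_ok : link_three.conjOK pElts sylTab_three autCert_three.base = true := by decide +kernel

theorem autThree_ok : link_three.autOK pElts sylTab_three autCert_three nrm_three = true := by decide +kernel

end CfsgLib.USixMult
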