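import Cfsg.Agent.Lib.USixMult.MultTwo
import Cfsg.Agent.Lib.Leech.Sub.Split
import Cfsg.Agent.Lib.Schur.LinearPieces

/-! Kernel checks of the table for the prime 2. -/

set_option autoImplicit false
-- the pieces are checked one after another, which keeps the peak memory low
set_option Elab.async false
set_option maxRecDepth 100000

namespace CfsgLib.USixMult

open CfsgLib.Schur.LinTable CfsgLib.Schur.PermTableWide CfsgLib.Leech

theorem progOK : (List.range pElts.prog.length).all pElts.progAt = true := by decide +kernel

theorem restTwo_ok : sylTab_two.restOK = true := by decide +kernel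

theorem runTwo_0 : sylTab_two.runPieceOK 640 0 = true := by decide +kernel

theorem runTwo_1 : sylTab_two.runPieceOK 640 1 = true := by decide +kernel

theorem runTwo_2 : sylTab_two.runPieceOK 640 2 = true := by decide +kernel

theorem runTwo_3 : sylTab_two.runPieceOK 640 3 = true := by decide +kernel

theorem runTwo_4 : sylTab_two.runPieceOK 640 4 = true := by decide +kernel

theorem edgeTwo_0 : pieceOK 256 (List.range sylTab_two.N) (sylTab_two.edgeOK (sylTab_two.knownAt 640 5)) 0 = true := by decide +kernel

theorem edgeTwo_1 : pieceOK 256 (List.range sylTab_two.N) (sylTab_two.edgeOK (sylTab_two.knownAt 640 5)) 1 = true := by decide +kernel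

theorem edgeTwo_2 : pieceOK 256 (List.range sylTab_two.N) (sylTab_two.edgeOK (sylTab_two.knownAt 640 5)) 2 = true := by decide +kernel

theorem edgeTwo_3 : pieceOK 256 (List.range sylTab_two.N) (sylTab_two.edgeOK (sylTab_two.knownAt 640 5)) 3 = true := by decide +kernel

theorem tabTwo_ok : sylTab_two.ok = true :=
  Tab.ok_of_pieces _ (n := 640) (m := 5) restTwo_ok (by decide +kernel)
    (fun i hi => match i, hi with
    | 0, _ => runTwo_0
    | 1, _ => runTwo_1
    | 2, _ => runTwo_2
    | 3, _ => runTwo_3
    | 4, _ => runTwo_4
    | j + 5, h => absurd h (by omega))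
    (all_of_pieces (n := 256) (m := 4) (by decide +kernel) fun i hi => match i, hi with
    | 0, _ => edgeTwo_0
    | 1, _ => edgeTwo_1
    | 2, _ => edgeTwo_2
    | 3, _ => edgeTwo_3
    | j + 4, h => absurd h (by omega))

theorem latTwo_ok : sylTab_two.autOK autCert_two = true := by decide +kernel

theorem headTwo_ok : link_two.headOK pElts sylTab_two = true := by decide +kernel

theorem elTwo_0 : pieceOK 150 (List.range sylTab_two.N) (link_two.elAt pElts sylTab_two) 0 = true := by decide +kernel

theorem elTwo_1 : pieceOK 150 (List.range sylTab_two.N) (link_two.elAt pElts sylTab_two) 1 = true := by decide +kernel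

theorem elTwo_2 : pieceOK 150 (List.range sylTab_two.N) (link_two.elAt pElts sylTab_two) 2 = true := by decide +kernel

theorem elTwo_3 : pieceOK 150 (List.range sylTab_two.N) (link_two.elAt pElts sylTab_two) 3 = true := by decide +kernel

theorem elTwo_4 : pieceOK 150 (List.range sylTab_two.N) (link_two.elAt pElts sylTab_two) 4 = true := by decide +kernel

theorem elTwo_5 : pieceOK 150 (List.range sylTab_two.N) (link_two.elAt pElts sylTab_two) 5 = true := by decide +kernel

theorem elTwo_6 : pieceOK 150 (List.range sylTab_two.N) (link_two.elAt pElts sylTab_two) 6 = true := by decide +kernel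

theorem elTwo_all : (List.range sylTab_two.N).all (link_two.elAt pElts sylTab_two) = true :=
  all_of_pieces (n := 150) (m := 7) (by decide +kernel) fun i hi =>
    match i, hi with
    | 0, _ => elTwo_0
    | 1, _ => elTwo_1
    | 2, _ => elTwo_2
    | 3, _ => elTwo_3
    | 4, _ => elTwo_4
    | 5, _ => elTwo_5
    | 6, _ => elTwo_6
    | j + 7, h => absurd h (by omega)

theorem conjTwo_ok : link_two.conjOK pElts sylTab_two autCert_two.base = true := by decide +kernel

theorem autTwo_ok : link_two.autOK pElts sylTab_two autCert_two nrm_two = true := by decide +kernel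

end CfsgLib.USixMult
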