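import Cfsg.Agent.Lib.USixMult.DataP
import Cfsg.Agent.Lib.Leech.Sub.Split

/-! Kernel checks of the chain: elements. -/

set_option autoImplicit false
-- the pieces are checked one after another, which keeps the peak memory low
set_option Elab.async false
set_option maxRecDepth 100000

namespace CfsgLib.USixMult

open CfsgLib.Schur.MonoCover CfsgLib.Leech

theorem tabChkP_0 : pieceOK 150 (List.range dataP.nE) (dataP.tabChk) 0 = true := by decide +kernel

theorem tabChkP_1 : pieceOK 150 (List.range dataP.nE) (dataP.tabChk) 1 = true := by decide +kernel

theorem tabChkP_all : (List.range dataP.nE).all (dataP.tabChk) = true :=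
  all_of_pieces (n := 150) (m := 2) (by decide +kernel) fun i hi =>
    match i, hi with
    | 0, _ => tabChkP_0
    | 1, _ => tabChkP_1
    | j + 2, h => absurd h (by omega)

theorem defChkP_0 : pieceOK 80 (List.range dataP.nU) (dataP.defChk) 0 = true := by decide +kernel

theorem defChkP_1 : pieceOK 80 (List.range dataP.nU) (dataP.defChk) 1 = true := by decide +kernel

theorem defChkP_2 : pieceOK 80 (List.range dataP.nU) (dataP.defChk) 2 = true := by decide +kernel

theorem defChkP_3 : pieceOK 80 (List.range dataP.nU) (dataP.defChk) 3 = true := by decide +kernel

theorem defChkP_all : (List.range dataP.nU).all (dataP.defChk) = true :=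
  all_of_pieces (n := 80) (m := 4) (by decide +kernel) fun i hi =>
    match i, hi with
    | 0, _ => defChkP_0
    | 1, _ => defChkP_1
    | 2, _ => defChkP_2
    | 3, _ => defChkP_3
    | j + 4, h => absurd h (by omega)

theorem invChkP_all : (List.range dataP.ng).all dataP.invChk = true := by decide +kernel

theorem levChkP_0 : dataP.levChk 0 = true := by decide +kernel

theorem levChkP_1 : dataP.levChk 1 = true := by decide +kernel

theorem levChkP_2 : dataP.levChk 2 = true := by decide +kernel

theorem levChkP_3 : dataP.levChk 3 = true := by decide +kernel

theorem levChkP_4 : dataP.levChk 4 = true := by decide +kernel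

theorem levChkP_5 : dataP.levChk 5 = true := by decide +kernel

theorem pickChkP_all : (List.range dataP.nlev).all (fun k => (dataP.pick k).all (dataP.pickChk k)) = true := by decide +kernel

end CfsgLib.USixMult
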