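import Cfsg.Agent.Lib.USixMult.DataP
import Cfsg.Agent.Lib.Leech.Sub.Split

/-! Kernel checks of the chain: Schreier generators. -/

set_option autoImplicit false
-- the pieces are checked one after another, which keeps the peak memory low
set_option Elab.async false
set_option maxRecDepth 100000

namespace CfsgLib.USixMult

open CfsgLib.Schur.MonoCover CfsgLib.Leech

theorem schChkP0_0 : pieceOK 80 (schP0) (dataP.schChk 0) 0 = true := by decide +kernel

theorem schChkP0_1 : pieceOK 80 (schP0) (dataP.schChk 0) 1 = true := by decide +kernel

theorem schChkP0_2 : pieceOK 80 (schP0) (dataP.schChk 0) 2 = true := by decide +kernel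

theorem schChkP0_3 : pieceOK 80 (schP0) (dataP.schChk 0) 3 = true := by decide +kernel

theorem schChkP0_4 : pieceOK 80 (schP0) (dataP.schChk 0) 4 = true := by decide +kernel

theorem schChkP0_all : (schP0).all (dataP.schChk 0) = true :=
  all_of_pieces (n := 80) (m := 5) (by decide +kernel) fun i hi =>
    match i, hi with
    | 0, _ => schChkP0_0
    | 1, _ => schChkP0_1
    | 2, _ => schChkP0_2
    | 3, _ => schChkP0_3
    | 4, _ => schChkP0_4
    | j + 5, h => absurd h (by omega)

theorem schChkP1_0 : pieceOK 80 (schP1) (dataP.schChk 1) 0 = true := by decide +kernel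

theorem schChkP1_all : (schP1).all (dataP.schChk 1) = true :=
  all_of_pieces (n := 80) (m := 1) (by decide +kernel) fun i hi =>
    match i, hi with
    | 0, _ => schChkP1_0
    | j + 1, h => absurd h (by omega)

theorem schChkP2_0 : pieceOK 80 (schP2) (dataP.schChk 2) 0 = true := by decide +kernel

theorem schChkP2_all : (schP2).all (dataP.schChk 2) = true :=
  all_of_pieces (n := 80) (m := 1) (by decide +kernel) fun i hi =>
    match i, hi with
    | 0, _ => schChkP2_0
    | j + 1, h => absurd h (by omega)

theorem schChkP3_0 : pieceOK 80 (schP3) (dataP.schChk 3) 0 = true := by decide +kernel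

theorem schChkP3_1 : pieceOK 80 (schP3) (dataP.schChk 3) 1 = true := by decide +kernel

theorem schChkP3_all : (schP3).all (dataP.schChk 3) = true :=
  all_of_pieces (n := 80) (m := 2) (by decide +kernel) fun i hi =>
    match i, hi with
    | 0, _ => schChkP3_0
    | 1, _ => schChkP3_1
    | j + 2, h => absurd h (by omega)

theorem schChkP4_0 : pieceOK 80 (schP4) (dataP.schChk 4) 0 = true := by decide +kernel

theorem schChkP4_all : (schP4).all (dataP.schChk 4) = true :=
  all_of_pieces (n := 80) (m := 1) (by decide +kernel) fun i hi =>
    match i, hi with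
    | 0, _ => schChkP4_0
    | j + 1, h => absurd h (by omega)

theorem schChkP5_0 : pieceOK 80 (schP5) (dataP.schChk 5) 0 = true := by decide +kernel

theorem schChkP5_all : (schP5).all (dataP.schChk 5) = true :=
  all_of_pieces (n := 80) (m := 1) (by decide +kernel) fun i hi =>
    match i, hi with
    | 0, _ => schChkP5_0
    | j + 1, h => absurd h (by omega)

end CfsgLib.USixMult
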