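import Cfsg.Agent.Lib.Classical.UnitarySimple
import Cfsg.Agent.Lib.Classical.UnitaryOrder
import Cfsg.Agent.Lib.HePres.Sp4

/-!
Orthonormal frames for the Hermitian form over the field with four elements: transitivity of the special
unitary group on them and the embedding of a point stabiliser.
-/

set_option autoImplicit false

namespace CfsgLib.USixMult

open Matrix Cfsg
open CfsgLib.HePres (K4)
open CfsgLib.ClassicalAut (Unitary.Conj Unitary.herm_apply Unitary.mem_GU_iff)

instance : CharP K4 2 := CharTwo.of_one_ne_zero_of_two_eq_zero one_ne_zero K4.two_eq_zero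

/-- the involution -/
noncomputable def KC : Unitary.Conj K4 2 :=
  (Classical.Herm.exists_conj_of_card (F := K4) (q := 2) (by rw [K4.card_eq]; norm_num)).some

theorem sq_sq : ∀ a : K4, (a * a) * (a * a) = a := by decide +kernel

theorem bar_eq (a : K4) : KC.bar a = a ^ 2 := KC.bar_apply a

/-- the group -/
abbrev SUn (n : ℕ) : Subgroup (SpecialLinearGroup (Fin n) K4) := Cfsg.SU n K4 2

variable {n : ℕ}

/-- the image of a vector -/
def act (g : SUn n) (v : Fin n → K4) : Fin n → K4 := (g.1 : Matrix (Fin n) (Fin n) K4) *ᵥ v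

theorem act_one (v : Fin n → K4) : act 1 v = v := by
  show (1 : Matrix (Fin n) (Fin n) K4) *ᵥ v = v
  rw [one_mulVec]

theorem act_mul (g h : SUn n) (v : Fin n → K4) : act (g * h) v = act g (act h v) := by
  show (g.1.1 * h.1.1) *ᵥ v = _
  rw [← mulVec_mulVec]
  rfl

theorem act_inv_act (g : SUn n) (v : Fin n → K4) : act g⁻¹ (act g v) = v := by
  rw [← act_mul, inv_mul_cancel, act_one]

theorem hh_act (g : SUn n) (u v : Fin n → K4) : hermForm n K4 2 (act g u) (act g v) = hermForm n K4 2 u v := g.2 u v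

theorem act_add (g : SUn n) (u v : Fin n → K4) : act g (u + v) = act g u + act g v := mulVec_add _ _ _

theorem act_smul (g : SUn n) (c : K4) (v : Fin n → K4) : act g (c • v) = c • act g v := mulVec_smul _ _ _

theorem add_left (u u' v : Fin n → K4) : hermForm n K4 2 (u + u') v = hermForm n K4 2 u v + hermForm n K4 2 u' v := by
  simp only [hermForm, Pi.add_apply, add_mul, Finset.sum_add_distrib]

theorem smul_left (c : K4) (u v : Fin n → K4) : hermForm n K4 2 (c • u) v = c * hermForm n K4 2 u v := by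
  simp only [hermForm, Pi.smul_apply, smul_eq_mul, Finset.mul_sum, mul_assoc]

theorem add_right (u v v' : Fin n → K4) : hermForm n K4 2 u (v + v') = hermForm n K4 2 u v + hermForm n K4 2 u v' := by
  simp only [hermForm, Pi.add_apply, CharTwo.add_sq, mul_add, Finset.sum_add_distrib]

theorem smul_right (c : K4) (u v : Fin n → K4) : hermForm n K4 2 u (c • v) = c ^ 2 * hermForm n K4 2 u v := by
  simp only [hermForm, Pi.smul_apply, smul_eq_mul, Finset.mul_sum, mul_pow]
  exact Finset.sum_congr rfl fun i _ => by ring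

theorem swap (u v : Fin n → K4) : hermForm n K4 2 v u = hermForm n K4 2 u v ^ 2 := by
  rw [Classical.Herm.h_swap KC u v, bar_eq]

theorem swap_zero {u v : Fin n → K4} (h : hermForm n K4 2 u v = 0) : hermForm n K4 2 v u = 0 := by
  rw [swap, h, zero_pow two_ne_zero]

theorem self_norm : ∀ a : K4, a ^ 2 = a → a = 0 ∨ a = 1 := by decide +kernel

theorem norm_cases (v : Fin n → K4) : hermForm n K4 2 v v = 0 ∨ hermForm n K4 2 v v = 1 :=
  self_norm _ (swap v v).symm

/-- the first coordinate vectors -/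
theorem single_self (i : Fin n) : hermForm n K4 2 (Pi.single i 1) (Pi.single i 1) = 1 := by
  rw [Classical.Herm.h_single KC, Pi.single_eq_same]

/-- the diagonal matrix with one changed entry -/
theorem exists_diag_last (hn : 0 < n) {c : K4} (hc : c * c ^ 2 = 1) :
    ∃ g : GU n K4 2, ((g : GL (Fin n) K4) : Matrix (Fin n) (Fin n) K4).det = c ∧
      ∀ i : Fin n, (i : ℕ) + 1 < n →
        ((g : GL (Fin n) K4) : Matrix (Fin n) (Fin n) K4) *ᵥ Pi.single i 1 = Pi.single i 1 := by
  set d : Fin n → K4 := Function.update 1 ⟨n - 1, by omega⟩ c with hd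
  have hdd : ∀ i, d i * d i ^ 2 = 1 := fun i => by
    by_cases h : i = ⟨n - 1, by omega⟩
    · rw [hd, h, Function.update_self, hc]
    · rw [hd, Function.update_of_ne h, Pi.one_apply, one_pow, mul_one]
  have hdet : (Matrix.diagonal d).det = c := by
    rw [det_diagonal, Finset.prod_eq_single (⟨n - 1, by omega⟩ : Fin n)]
    · rw [hd, Function.update_self]
    · intro i _ hi; rw [hd, Function.update_of_ne hi, Pi.one_apply]
    · simp
  have hc0 : c ≠ 0 := fun h => by rw [h, zero_mul] at hc; exact zero_ne_one hc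
  refine ⟨⟨GeneralLinearGroup.mkOfDetNeZero (Matrix.diagonal d) (by rw [hdet]; exact hc0),
    fun u v => ?_⟩, hdet, fun i hi => ?_⟩
  · show hermForm n K4 2 (Matrix.diagonal d *ᵥ u) (Matrix.diagonal d *ᵥ v) = _
    simp only [hermForm, mulVec_diagonal]
    refine Finset.sum_congr rfl fun i _ => ?_
    linear_combination (u i * v i ^ 2) * hdd i
  · show Matrix.diagonal d *ᵥ Pi.single i 1 = _
    have hne : i ≠ ⟨n - 1, by omega⟩ := fun h => by
      have := congrArg Fin.val h; simp at this; omega
    funext j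
    rw [mulVec_diagonal]
    by_cases hj : j = i
    · rw [hj, hd, Function.update_of_ne hne, Pi.one_apply, one_mul]
    · rw [Pi.single_eq_of_ne hj, mul_zero]

/-- A frame is the image of the coordinate vectors. -/
theorem exists_frame_GU : ∀ (k : ℕ) (hk : k ≤ n) (p : Fin k → Fin n → K4),
    (∀ i, hermForm n K4 2 (p i) (p i) = 1) → (∀ i j, i ≠ j → hermForm n K4 2 (p i) (p j) = 0) →
    ∃ g : GU n K4 2, ∀ i : Fin k,
      ((g : GL (Fin n) K4) : Matrix (Fin n) (Fin n) K4) *ᵥ Pi.single (Fin.castLE hk i) 1 = p i := by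
  intro k
  induction k with
  | zero => intro _ p _ _; exact ⟨1, fun i => i.elim0⟩
  | succ k ih =>
    intro hk p h1 h0
    obtain ⟨g, hg⟩ := ih (by omega) (fun i => p i.castSucc) (fun i => h1 _)
      (fun i j hij => h0 _ _ fun e => hij (Fin.castSucc_injective k e))
    set A : Matrix (Fin n) (Fin n) K4 := ((g : GL (Fin n) K4) : Matrix (Fin n) (Fin n) K4)
    set B : Matrix (Fin n) (Fin n) K4 := (((g⁻¹ : GU n K4 2) : GL (Fin n) K4) : Matrix (Fin n) (Fin n) K4)
    have hAB : A * B = 1 := by
      show ((g : GL (Fin n) K4) : Matrix (Fin n) (Fin n) K4) * _ = 1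
      rw [← Units.val_mul, ← Subgroup.coe_mul, mul_inv_cancel]; rfl
    set u := B *ᵥ p (Fin.last k)
    have hAu : A *ᵥ u = p (Fin.last k) := by rw [mulVec_mulVec, hAB, one_mulVec]
    have hu0 : ∀ i : Fin n, (i : ℕ) < k → u i = 0 := by
      intro i hi
      have e : Fin.castLE (by omega : k ≤ n) ⟨i, hi⟩ = i := rfl
      have h := g.2 u (Pi.single i 1)
      change hermForm n K4 2 (A *ᵥ u) (A *ᵥ Pi.single i 1) = hermForm n K4 2 u (Pi.single i 1) at h
      rw [Classical.Herm.h_single KC] at h
      rw [← h, hAu]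
      have := hg ⟨i, hi⟩
      rw [e] at this
      rw [show A *ᵥ Pi.single i 1 = _ from this]
      exact h0 _ _ (Fin.ne_of_val_ne (by simp; omega))
    have hv0 : ∀ i : Fin n, (i : ℕ) < k → (Pi.single (⟨k, by omega⟩ : Fin n) (1 : K4) : Fin n → K4) i = 0 :=
      fun i hi => Pi.single_eq_of_ne (Fin.ne_of_val_ne (by simp; omega)) _
    obtain ⟨h, hh', hhu⟩ := Classical.Herm.exists_move KC hv0 hu0 (single_self _) (by
      rw [← g.2 u u]
      show hermForm n K4 2 (A *ᵥ u) (A *ᵥ u) = 1
      rw [hAu, h1])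
    refine ⟨g * h, fun i => ?_⟩
    rw [Subgroup.coe_mul, Units.val_mul, ← mulVec_mulVec]
    induction i using Fin.lastCases with
    | last => rw [show Fin.castLE hk (Fin.last k) = (⟨k, by omega⟩ : Fin n) from rfl, hhu, hAu]
    | cast i =>
      rw [show Fin.castLE hk i.castSucc = Fin.castLE (by omega) i from rfl, hh' _ i.2]
      exact hg i

/-- A short frame is the image of the coordinate vectors under the special group. -/
theorem exists_frame {k : ℕ} (hk : k < n) (p : Fin k → Fin n → K4)
    (h1 : ∀ i, hermForm n K4 2 (p i) (p i) = 1) (h0 : ∀ i j, i ≠ j → hermForm n K4 2 (p i) (p j) = 0) :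
    ∃ g : SUn n, ∀ i : Fin k, act g (Pi.single (Fin.castLE hk.le i) 1) = p i := by
  obtain ⟨g, hg⟩ := exists_frame_GU k hk.le p h1 h0
  set c := ((g : GL (Fin n) K4) : Matrix (Fin n) (Fin n) K4).det with hc
  have hcn : c * c ^ 2 = 1 := by
    have h := congrArg Matrix.det ((Unitary.mem_GU_iff KC).1 g.2)
    rw [det_mul, det_transpose, det_one] at h
    rw [← bar_eq, show KC.bar c = ((((g : GL (Fin n) K4) : Matrix (Fin n) (Fin n) K4)).map KC.bar).det from
      RingHom.map_det KC.bar.toRingHom _]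
    exact h
  obtain ⟨d, hd, hdf⟩ := exists_diag_last (n := n) (by omega) (c := c ^ 2)
    (by linear_combination (c * c ^ 2 + 1) * hcn)
  have hdet : (((g * d : GU n K4 2) : GL (Fin n) K4) : Matrix (Fin n) (Fin n) K4).det = 1 := by
    rw [Subgroup.coe_mul, Units.val_mul, det_mul, hd, ← hc, hcn]
  refine ⟨⟨⟨_, hdet⟩, (g * d).2⟩, fun i => ?_⟩
  show (((g * d : GU n K4 2) : GL (Fin n) K4) : Matrix (Fin n) (Fin n) K4) *ᵥ _ = _
  rw [Subgroup.coe_mul, Units.val_mul, ← mulVec_mulVec, hdf _ (by simp; omega)]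
  exact hg i

/-- Frames of the same length are equivalent. -/
theorem frame_trans {k : ℕ} (hk : k < n) (p p' : Fin k → Fin n → K4)
    (h1 : ∀ i, hermForm n K4 2 (p i) (p i) = 1) (h0 : ∀ i j, i ≠ j → hermForm n K4 2 (p i) (p j) = 0)
    (h1' : ∀ i, hermForm n K4 2 (p' i) (p' i) = 1) (h0' : ∀ i j, i ≠ j → hermForm n K4 2 (p' i) (p' j) = 0) :
    ∃ g : SUn n, ∀ i, act g (p i) = p' i := by
  obtain ⟨a, ha⟩ := exists_frame hk p h1 h0
  obtain ⟨b, hb⟩ := exists_frame hk p' h1' h0'
  exact ⟨b * a⁻¹, fun i => by rw [act_mul, ← ha i, act_inv_act, hb]⟩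

/-- the first coordinate vector -/
def e0 : Fin (n + 1) → K4 := Pi.single 0 1

/-- the matrix of an extension -/
def extM (A : Matrix (Fin n) (Fin n) K4) : Matrix (Fin (n + 1)) (Fin (n + 1)) K4 :=
  Matrix.of fun i j => Fin.cases (Fin.cases (1 : K4) (fun _ => 0) j)
    (fun i' => Fin.cases (0 : K4) (fun j' => A i' j') j) i

theorem extM_mulVec (A : Matrix (Fin n) (Fin n) K4) (v : Fin (n + 1) → K4) :
    extM A *ᵥ v = Fin.cons (v 0) (A *ᵥ fun j => v j.succ) := by
  funext i
  induction i using Fin.cases with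
  | zero => simp [extM, mulVec, dotProduct, Fin.sum_univ_succ]
  | succ i => simp [extM, mulVec, dotProduct, Fin.sum_univ_succ]

theorem hh_cons (a b : K4) (u v : Fin n → K4) :
    hermForm (n + 1) K4 2 (Fin.cons a u) (Fin.cons b v) = a * b ^ 2 + hermForm n K4 2 u v := by
  simp [hermForm, Fin.sum_univ_succ]

theorem det_extM (A : Matrix (Fin n) (Fin n) K4) : (extM A).det = A.det := by
  rw [det_succ_row_zero, Fin.sum_univ_succ]
  have h : (extM A).submatrix Fin.succ (Fin.succAbove 0) = A := by
    ext i j; simp [extM]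
  simp [extM] at h ⊢
  rw [h]

/-- the extension by a fixed vector -/
noncomputable def ext : SUn n →* SUn (n + 1) :=
  MonoidHom.mk' (fun g => ⟨⟨extM g.1.1, by rw [det_extM]; exact g.1.2⟩, fun u v => by
    show hermForm (n + 1) K4 2 (extM g.1.1 *ᵥ u) (extM g.1.1 *ᵥ v) = _
    rw [extM_mulVec, extM_mulVec, hh_cons, ← Fin.cons_self_tail u, ← Fin.cons_self_tail v, hh_cons]
    simp only [Fin.cons_zero, Fin.cons_succ]
    rw [show hermForm n K4 2 (g.1.1 *ᵥ Fin.tail u) (g.1.1 *ᵥ Fin.tail v) = hermForm n K4 2 (Fin.tail u) (Fin.tail v) from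
      g.2 _ _]⟩) fun g h => by
    refine Subtype.ext (Subtype.ext (Matrix.ext_of_mulVec_single fun i => ?_))
    show extM (g.1.1 * h.1.1) *ᵥ _ = (extM g.1.1 * extM h.1.1) *ᵥ _
    rw [← mulVec_mulVec, extM_mulVec, extM_mulVec, extM_mulVec, Fin.cons_zero, ← mulVec_mulVec]
    simp only [Fin.cons_succ]

theorem act_ext (g : SUn n) (v : Fin (n + 1) → K4) :
    act (ext g) v = Fin.cons (v 0) (act g fun j => v j.succ) := extM_mulVec _ _

theorem ext_fix (g : SUn n) : act (ext g) e0 = e0 := by
  rw [act_ext, show (fun j : Fin n => (e0 : Fin (n + 1) → K4) j.succ) = 0 from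
    funext fun j => Pi.single_eq_of_ne (Fin.succ_ne_zero j) _]
  rw [show act g 0 = 0 from mulVec_zero _]
  funext i
  induction i using Fin.cases with
  | zero => simp [e0]
  | succ i => simp [e0, Fin.succ_ne_zero]

theorem ext_injective : Function.Injective (ext (n := n)) := fun g h e => by
  refine Subtype.ext (Subtype.ext (Matrix.ext fun i j => ?_))
  have := congrArg (fun x : SUn (n + 1) => (x.1 : Matrix _ _ K4) i.succ j.succ) e
  simpa [ext, extM] using this

/-- Everything fixing the first vector is an extension. -/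
theorem exists_ext {g : SUn (n + 1)} (hg : act g e0 = e0) : ∃ h : SUn n, ext h = g := by
  set M : Matrix (Fin (n + 1)) (Fin (n + 1)) K4 := g.1.1
  have hcol : ∀ i, M i 0 = (e0 : Fin (n + 1) → K4) i := fun i => by
    have := congrFun hg i
    simpa [act, e0, mulVec_single] using this
  have hrow : ∀ j : Fin n, M 0 j.succ = 0 := fun j => by
    have h := hh_act g (Pi.single j.succ 1) e0
    rw [hg] at h
    unfold e0 at h
    rw [Classical.Herm.h_single KC, Classical.Herm.h_single KC,
      Pi.single_eq_of_ne (Fin.succ_ne_zero j).symm] at h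
    simpa [act, mulVec_single] using h
  set A : Matrix (Fin n) (Fin n) K4 := Matrix.of fun i j => M i.succ j.succ
  have hM : M = extM A := Matrix.ext fun i j => by
    induction i using Fin.cases with
    | zero =>
      induction j using Fin.cases with
      | zero => simp [extM, hcol, e0]
      | succ j => simp [extM, hrow]
    | succ i =>
      induction j using Fin.cases with
      | zero => simp [extM, hcol, e0, Fin.succ_ne_zero]
      | succ j => simp [extM, A]
  have hA : A.det = 1 := by rw [← det_extM, ← hM]; exact g.1.2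
  refine ⟨⟨⟨A, hA⟩, fun u v => ?_⟩, Subtype.ext (Subtype.ext hM.symm)⟩
  show hermForm n K4 2 (A *ᵥ u) (A *ᵥ v) = hermForm n K4 2 u v
  have h := g.2 (Fin.cons 0 u) (Fin.cons 0 v)
  change hermForm (n + 1) K4 2 (M *ᵥ Fin.cons 0 u) (M *ᵥ Fin.cons 0 v) = _ at h
  rw [hM, extM_mulVec, extM_mulVec] at h
  simp only [Fin.cons_zero, Fin.cons_succ] at h
  rw [hh_cons, hh_cons, zero_mul, zero_add, zero_add] at h
  exact h

theorem perfect (hn : 4 ≤ n) : commutator (SUn n) = ⊤ :=
  Classical.Herm.commutator_eq_top KC 2 (by omega) (by omega)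

end CfsgLib.USixMult
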