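import Cfsg.Agent.Lib.Schur.FamilyAction
import Cfsg.Agent.Lib.USixMult.Frames
import Cfsg.Agent.Lib.USixMult.ElemsFive

/-!
The action of `SU₅(2)` on 165 isotropic points and two of its elements.
-/

set_option autoImplicit false
set_option Elab.async false
set_option maxRecDepth 100000

namespace CfsgLib.USixMult

open Matrix Cfsg
open CfsgLib.HePres (K4)

abbrev V5 : Type := Fin 5 → K4

/-- the field element of a code -/
def el (x : ℕ) : K4 := ⟨⟨x % 4, Nat.mod_lt _ (by norm_num)⟩⟩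

/-- the code of a vector -/
def code5 (v : V5) : ℕ :=
  (v 0).code.val + 4 * (v 1).code.val + 16 * (v 2).code.val + 64 * (v 3).code.val + 256 * (v 4).code.val

/-- the vector of a code -/
def vec5 (n : ℕ) : V5 := fun i => el (n / 4 ^ (i : ℕ))

theorem code5_lt (v : V5) : code5 v < 1024 := by
  have key : ∀ a : K4, a.code.val < 4 := fun a => a.code.isLt
  have := key (v 0); have := key (v 1); have := key (v 2); have := key (v 3); have := key (v 4)
  unfold code5; omega

theorem vec5_code (v : V5) : vec5 (code5 v) = v := by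
  have key : ∀ a : K4, a.code.val < 4 := fun a => a.code.isLt
  have := key (v 0); have := key (v 1); have := key (v 2); have := key (v 3); have := key (v 4)
  funext i
  have hcode : ((vec5 (code5 v) i).code : ℕ) = (v i).code := by
    simp only [vec5, el, code5]
    fin_cases i <;> simp <;> omega
  cases hv : v i
  cases hw : vec5 (code5 v) i
  rw [hv, hw] at hcode
  exact congrArg K4.mk (Fin.ext hcode)

/-- the vector of a point -/
def pt5 (i : ℕ) : V5 := vec5 ((vecTab5.getD (i / 32) []).getD (i % 32) 0)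

/-- the point of a vector, plus one -/
def lk5 (n : ℕ) : ℕ := (lookTab5.getD (n / 32) []).getD (n % 32) 0

/-- the form on a vector -/
def nrm5 (v : V5) : K4 :=
  v 0 * (v 0 * v 0) + v 1 * (v 1 * v 1) + v 2 * (v 2 * v 2) + v 3 * (v 3 * v 3) + v 4 * (v 4 * v 4)

theorem herm_self5 (v : V5) : hermForm 5 K4 2 v v = nrm5 v := by
  simp [hermForm, Fin.sum_univ_five, nrm5, pow_two]

theorem units_cases : ∀ c : K4, c ≠ 0 → c = el 1 ∨ c = el 2 ∨ c = el 3 := by decide +kernel

theorem el_facts : el 1 = 1 ∧ el 1 ≠ 0 ∧ el 2 ≠ 0 ∧ el 3 ≠ 0 := by decide +kernel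

theorem ptChk5 : (List.range 165).all (fun i => decide (nrm5 (pt5 i) = 0) && decide (pt5 i ≠ 0) &&
    [1, 2, 3].all fun c => Nat.beq (lk5 (code5 (el c • pt5 i))) (i + 1)) = true := by decide +kernel

theorem classChk5 : (List.range 1024).all (fun n => decide (nrm5 (vec5 n) ≠ 0) || Nat.beq n 0 ||
    (Nat.blt 0 (lk5 n) && Nat.blt (lk5 n) 166 &&
      [1, 2, 3].any fun c => decide (el c • pt5 (lk5 n - 1) = vec5 n))) = true := by decide +kernel

theorem pt5_facts (i : Fin 165) : hermForm 5 K4 2 (pt5 i) (pt5 i) = 0 ∧ pt5 i ≠ 0 ∧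
    ∀ c : K4, c ≠ 0 → lk5 (code5 (c • pt5 i)) = i + 1 := by
  have h := List.all_eq_true.1 ptChk5 i (List.mem_range.2 i.2)
  simp only [Bool.and_eq_true, decide_eq_true_eq, List.all_eq_true, Nat.beq_eq] at h
  refine ⟨by rw [herm_self5]; exact h.1.1, h.1.2, fun c hc => ?_⟩
  rcases units_cases c hc with rfl | rfl | rfl <;> exact h.2 _ (by simp)

/-- the nonzero multiples of a vector -/
def pr5 (v : V5) : Finset V5 := {v, el 2 • v, el 3 • v}

theorem mem_pr5 {v w : V5} : w ∈ pr5 v ↔ ∃ c : K4, c ≠ 0 ∧ w = c • v := by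
  constructor
  · intro h
    simp only [pr5, Finset.mem_insert, Finset.mem_singleton] at h
    rcases h with rfl | rfl | rfl
    · exact ⟨1, one_ne_zero, (one_smul _ _).symm⟩
    · exact ⟨_, el_facts.2.2.1, rfl⟩
    · exact ⟨_, el_facts.2.2.2, rfl⟩
  · rintro ⟨c, hc, rfl⟩
    rcases units_cases c hc with rfl | rfl | rfl <;> simp [pr5, el_facts.1]

theorem pr5_smul {c : K4} (hc : c ≠ 0) (v : V5) : pr5 (c • v) = pr5 v := by
  ext w
  simp only [mem_pr5]
  constructor
  · rintro ⟨d, hd, rfl⟩; exact ⟨d * c, mul_ne_zero hd hc, smul_smul _ _ _⟩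
  · rintro ⟨d, hd, rfl⟩
    exact ⟨d * c⁻¹, mul_ne_zero hd (inv_ne_zero hc), by
      rw [smul_smul, mul_assoc, inv_mul_cancel₀ hc, mul_one]⟩

theorem pr5_pt_inj : Function.Injective fun i : Fin 165 => pr5 (pt5 i) := fun i j e => by
  have hm : pt5 i ∈ pr5 (pt5 j) := by
    rw [← show pr5 (pt5 i) = pr5 (pt5 j) from e]
    exact mem_pr5.2 ⟨1, one_ne_zero, (one_smul _ _).symm⟩
  obtain ⟨c, hc, h⟩ := mem_pr5.1 hm
  have h1 := (pt5_facts i).2.2 1 one_ne_zero
  rw [one_smul, h, (pt5_facts j).2.2 c hc] at h1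
  exact Fin.ext (by omega)

theorem exists_pt5 {v : V5} (h0 : v ≠ 0) (hq : hermForm 5 K4 2 v v = 0) :
    ∃ j : Fin 165, pr5 v = pr5 (pt5 j) := by
  have h := List.all_eq_true.1 classChk5 (code5 v) (List.mem_range.2 (code5_lt v))
  simp only [vec5_code, Bool.or_eq_true, Bool.and_eq_true, decide_eq_true_eq, Nat.beq_eq,
    Nat.blt_eq, List.any_eq_true] at h
  rcases h with (h | h) | ⟨⟨hpos, hlt⟩, c, hc, he⟩
  · exact absurd (by rw [← herm_self5]; exact hq) h
  · exact absurd (by rw [← vec5_code v, h]; decide) h0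
  · refine ⟨⟨lk5 (code5 v) - 1, by omega⟩, ?_⟩
    have hc0 : el c ≠ 0 := by
      fin_cases hc
      exacts [el_facts.2.1, el_facts.2.2.1, el_facts.2.2.2]
    conv_lhs => rw [← he]
    exact pr5_smul hc0 _

/-- the matrix of a table -/
def mat5 (k : ℕ) : Matrix (Fin 5) (Fin 5) K4 :=
  Matrix.of fun i j => el (((genTab5.getD k []).getD i []).getD j 0)

/-- A matrix with unit Gram matrix is an isometry. -/
theorem isometry_of_gram {n : ℕ} {M : Matrix (Fin n) (Fin n) K4}
    (h : ∀ a b, ∑ i, M i a * M i b ^ 2 = if a = b then (1 : K4) else 0) (u v : Fin n → K4) :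
    hermForm n K4 2 (M *ᵥ u) (M *ᵥ v) = hermForm n K4 2 u v := by
  show ∑ i, (M *ᵥ u) i * ((M *ᵥ v) i) ^ 2 = ∑ a, u a * v a ^ 2
  simp only [Matrix.mulVec, dotProduct]
  conv_lhs => arg 2; ext i; arg 2; rw [CharTwo.sum_sq]
  simp only [mul_pow, Finset.sum_mul, Finset.mul_sum]
  rw [Finset.sum_comm]
  refine Finset.sum_congr rfl fun a _ => ?_
  rw [Finset.sum_comm]
  have e : ∀ b, ∑ i, M i b * u b * (M i a ^ 2 * v a ^ 2) = (if b = a then u b * v a ^ 2 else 0) := by
    intro b
    rw [show (if b = a then u b * v a ^ 2 else 0) = (if b = a then (1 : K4) else 0) * (u b * v a ^ 2) by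
      split_ifs <;> simp, ← h b a, Finset.sum_mul]
    exact Finset.sum_congr rfl fun i _ => by ring
  refine (Finset.sum_congr rfl fun b _ => ((Finset.sum_congr rfl fun i _ => by ring).trans (e b))).trans ?_
  simp

theorem gramChk : ∀ k : Fin 2, ∀ a b : Fin 5,
    ∑ i, mat5 k i a * mat5 k i b ^ 2 = if a = b then (1 : K4) else 0 := by decide +kernel

theorem detChk : ∀ k : Fin 2, (mat5 k).det = 1 := by decide +kernel

/-- the generators -/
def gen5 (k : Fin 2) : SUn 5 := ⟨⟨mat5 k, detChk k⟩, isometry_of_gram (gramChk k)⟩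

/-- The action on the points. -/
theorem exists_action5 : ∃ φ : SUn 5 →* Equiv.Perm (Fin 165), ∀ k : Fin 2, ∀ i : Fin 165,
    lk5 (code5 (mat5 k *ᵥ pt5 i)) = (φ (gen5 k) i : ℕ) + 1 := by
  classical
  let move : SUn 5 → Finset V5 → Finset V5 := fun g S => S.image (act g)
  have move_pr : ∀ (g : SUn 5) (v : V5), move g (pr5 v) = pr5 (act g v) := fun g v => by
    simp [move, pr5, act_smul]
  have himg : ∀ (g : SUn 5) (i : Fin 165), ∃ j : Fin 165, move g (pr5 (pt5 i)) = pr5 (pt5 j) := by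
    intro g i
    rw [move_pr]
    refine exists_pt5 (fun h => (pt5_facts i).2.1 ?_) ((hh_act g _ _).trans (pt5_facts i).1)
    rw [← act_inv_act g (pt5 i), h]
    exact mulVec_zero _
  obtain ⟨φ, hφ⟩ := CfsgLib.Schur.exists_familyHom move (fun i : Fin 165 => pr5 (pt5 i)) pr5_pt_inj
    (fun i => by
      show (pr5 (pt5 i)).image (act 1) = _
      rw [show act (1 : SUn 5) = id from funext act_one, Finset.image_id])
    (fun g h i => by
      show (pr5 (pt5 i)).image (act (g * h)) = ((pr5 (pt5 i)).image (act h)).image (act g)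
      rw [Finset.image_image]
      exact congrArg (fun f => (pr5 (pt5 i)).image f) (funext (act_mul g h)))
    (S := Set.univ) (Subgroup.closure_univ) (fun g _ i => himg g i)
  refine ⟨φ, fun k i => ?_⟩
  obtain ⟨j, hj⟩ := himg (gen5 k) i
  obtain rfl : φ (gen5 k) i = j := pr5_pt_inj ((hφ (gen5 k) i).trans hj)
  rw [move_pr] at hj
  have hm : act (gen5 k) (pt5 i) ∈ pr5 (pt5 (φ (gen5 k) i)) := by
    rw [← hj]; exact mem_pr5.2 ⟨1, one_ne_zero, (one_smul _ _).symm⟩
  obtain ⟨c, hc, e⟩ := mem_pr5.1 hm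
  rw [show mat5 k *ᵥ pt5 i = act (gen5 k) (pt5 i) from rfl, e, (pt5_facts _).2.2 c hc]

end CfsgLib.USixMult
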