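import Cfsg.Agent.Lib.Schur.CyclicBound
import Cfsg.Agent.Lib.Schur.MonoLift
import Cfsg.Agent.Lib.USixMult.FiveModel
import Cfsg.Agent.Lib.USixMult.ChkP
import Cfsg.Agent.Lib.USixMult.ChkSchP
import Cfsg.Agent.Lib.USixMult.ChkMultTwo
import Cfsg.Agent.Lib.USixMult.ChkMultThree

/-!
The multiplier of `SU₅(2)` is trivial.
-/

set_option autoImplicit false
set_option maxRecDepth 100000
set_option linter.style.haveILetI false

namespace CfsgLib.USixMult

open Matrix Cfsg CfsgLib.Schur CfsgLib.Schur.PermTableWide CfsgLib.Schur.MonoCover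
open CfsgLib.HePres (K4)
open scoped commutatorElement

theorem validP : dataP.Valid where
  hm := by decide
  hc := by decide
  htab := tabChkP_all
  hinv := invChkP_all
  hdef := defChkP_all
  hlev := List.all_eq_true.2 fun k hk => by
    have hk' : k < 6 := List.mem_range.1 hk
    interval_cases k
    exacts [levChkP_0, levChkP_1, levChkP_2, levChkP_3, levChkP_4, levChkP_5]
  hlast := rfl
  hsch := fun k hk => by
    have hk' : k < 6 := hk
    interval_cases k
    exacts [schChkP0_all, schChkP1_all, schChkP2_all, schChkP3_all, schChkP4_all, schChkP5_all]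
  hpick := fun k hk => List.all_eq_true.1 pickChkP_all k (List.mem_range.2 hk)

theorem card_su5 : Nat.card (SUn 5) = 13685760 := by
  have hs := Classical.Herm.card_SU KC (n := 5) (by norm_num)
  rw [Classical.Herm.card_GU KC] at hs
  simp [Finset.prod_range_succ, Nat.even_iff] at hs
  show Nat.card (Cfsg.SU 5 K4 2) = _
  omega

theorem gensP : (∀ g ∈ dataP.gens 0, g < 2) ∧
    (List.range 165).all (fun i => Nat.beq (dataP.img 0 i + 1) (lk5 (code5 (mat5 0 *ᵥ pt5 i))) &&
      Nat.beq (dataP.img 1 i + 1) (lk5 (code5 (mat5 1 *ᵥ pt5 i))) &&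
      Nat.beq (ap (pElts.P 0) i + 1) (lk5 (code5 (mat5 0 *ᵥ pt5 i))) &&
      Nat.beq (ap (pElts.P 1) i + 1) (lk5 (code5 (mat5 1 *ᵥ pt5 i)))) = true ∧
    Data.orbitProd dataP 0 dataP.nlev = 13685760 := by
  refine ⟨?_, by decide +kernel, by decide +kernel⟩
  decide +kernel

/-- Perfect central extensions of `SU₅(2)` are trivial. -/
theorem five_trivial {Γ : Type} [Group Γ] [Finite Γ] (σ : Γ →* SUn 5) (hσ : IsStemExtension σ) :
    ∀ z ∈ σ.ker, z = 1 := by
  obtain ⟨φ, hφ⟩ := exists_action5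
  obtain ⟨hg2, himg, hprod⟩ := gensP
  simp only [List.all_eq_true, List.mem_range, Bool.and_eq_true, Nat.beq_eq] at himg
  let X : ℕ → SUn 5 := fun g => if g = 0 then gen5 0 else gen5 1
  have hinj : Function.Injective φ := (Data.chain_generates validP φ X (fun g hg i => by
      have hi := himg i i.isLt
      have h0 : lk5 (code5 (mat5 0 *ᵥ pt5 i)) = (φ (gen5 0) i : ℕ) + 1 := hφ 0 i
      have h1 : lk5 (code5 (mat5 1 *ᵥ pt5 i)) = (φ (gen5 1) i : ℕ) + 1 := hφ 1 i
      have := hg2 g hg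
      interval_cases g
      · show (φ (gen5 0) i : ℕ) = _
        omega
      · show (φ (gen5 1) i : ℕ) = _
        omega)
    (by rw [card_su5, hprod])).2
  have a0 : ∃ x, Acts (E := pElts) φ x (pElts.P 0) := ⟨gen5 0, fun i => by
    have h0 : lk5 (code5 (mat5 0 *ᵥ pt5 i)) = (φ (gen5 0) i : ℕ) + 1 := hφ 0 i
    have := (himg i i.isLt).1.2
    omega⟩
  have a1 : ∃ x, Acts (E := pElts) φ x (pElts.P 1) := ⟨gen5 1, fun i => by
    have h1 : lk5 (code5 (mat5 1 *ᵥ pt5 i)) = (φ (gen5 1) i : ℕ) + 1 := hφ 1 i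
    have := (himg i i.isLt).2
    omega⟩
  haveI : Finite (SUn 5) := Nat.finite_of_card_ne_zero (by rw [card_su5]; norm_num)
  obtain ⟨U2, hU2, h2'⟩ := trivial_of_link (M := 13365) (ℓ := 2) hinj a0 a1 progOK link_two nrm_two
    tabTwo_ok latTwo_ok headTwo_ok elTwo_all conjTwo_ok autTwo_ok (by rw [card_su5]; rfl) (by norm_num)
    σ hσ.1 hσ.2.1
  obtain ⟨U3, hU3, h3'⟩ := trivial_of_link (M := 56320) (ℓ := 3) hinj a0 a1 progOK link_three nrm_three
    tabThree_ok latThree_ok headThree_ok elThree_all conjThree_ok autThree_ok (by rw [card_su5]; rfl)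
    (by norm_num) σ hσ.1 hσ.2.1
  have hle : σ.ker ≤ Subgroup.zpowers (1 : Γ) := by
    refine CyclicBound.ker_le_zpowers hσ (1 : Γ) fun ℓ hℓ => ?_
    by_cases h2 : ℓ = 2
    · subst h2
      exact ⟨U2, hU2, fun z hz hzd => by rw [h2' z hz hzd]; exact one_mem _⟩
    by_cases h3 : ℓ = 3
    · subst h3
      exact ⟨U3, hU3, fun z hz hzd => by rw [h3' z hz hzd]; exact one_mem _⟩
    haveI := Fact.mk hℓ
    have hnd : ¬ ℓ ^ 2 ∣ Nat.card (SUn 5) := by
      rw [card_su5]
      intro hd
      have hcop : (ℓ ^ 2).Coprime (2 ^ 10 * 3 ^ 5) := Nat.Coprime.pow_left 2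
        (Nat.coprime_mul_iff_right.2 ⟨((Nat.coprime_primes hℓ Nat.prime_two).2 h2).pow_right 10,
          ((Nat.coprime_primes hℓ Nat.prime_three).2 h3).pow_right 5⟩)
      have hd' := Nat.le_of_dvd (by norm_num)
        (hcop.dvd_of_dvd_mul_left (show ℓ ^ 2 ∣ 2 ^ 10 * 3 ^ 5 * 55 from hd))
      have hlt : ℓ < 8 := by nlinarith
      interval_cases ℓ <;> norm_num at *
    refine ⟨(default : Sylow ℓ (SUn 5)), Sylow.not_dvd_index _, fun z hz hzd => ?_⟩
    have hP := (default : Sylow ℓ (SUn 5)).card_eq_multiplicity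
    haveI : IsCyclic ((default : Sylow ℓ (SUn 5)) : Subgroup (SUn 5)) := by
      have hle : (Nat.card (SUn 5)).factorization ℓ ≤ 1 := by
        by_contra hc
        exact hnd ((pow_dvd_pow ℓ (by omega)).trans (Nat.ordProj_dvd _ ℓ))
      interval_cases hf : (Nat.card (SUn 5)).factorization ℓ
      · rw [pow_zero] at hP
        have : Subsingleton ((default : Sylow ℓ (SUn 5)) : Subgroup (SUn 5)) :=
          (Nat.card_eq_one_iff_unique.1 hP).1
        exact isCyclic_of_subsingleton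
      · rw [pow_one] at hP
        exact isCyclic_of_prime_card hP
    rw [preimage_commutator_eq_bot_of_isCyclic σ hσ.2.1] at hzd
    rw [Subgroup.mem_bot.1 hzd]
    exact one_mem _
  intro z hz
  have := hle hz
  rwa [Subgroup.zpowers_one_eq_bot, Subgroup.mem_bot] at this

end CfsgLib.USixMult
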