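import Cfsg.Agent.Lib.USixMult.Frames

/-!
Small searches in the Hermitian spaces of dimension at most six over four elements.
-/

set_option autoImplicit false
set_option Elab.async false
set_option maxRecDepth 100000

namespace CfsgLib.USixMult

open Matrix Cfsg
open CfsgLib.HePres (K4)

/-- the field element of a code -/
def cel (x : ℕ) : K4 := ⟨⟨x % 4, Nat.mod_lt _ (by norm_num)⟩⟩

/-- the code of a vector of length four -/
def code4 (v : Fin 4 → K4) : ℕ :=
  (v 0).code.val + 4 * (v 1).code.val + 16 * (v 2).code.val + 64 * (v 3).code.val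

/-- the vector of a code -/
def vecOf (m n : ℕ) : Fin m → K4 := fun i => cel (n / 4 ^ (i : ℕ))

theorem code4_spec (v : Fin 4 → K4) : code4 v < 256 ∧ vecOf 4 (code4 v) = v := by
  have key : ∀ a : K4, a.code.val < 4 := fun a => a.code.isLt
  have := key (v 0); have := key (v 1); have := key (v 2); have := key (v 3)
  refine ⟨by unfold code4; omega, funext fun i => ?_⟩
  have hcode : ((vecOf 4 (code4 v) i).code : ℕ) = (v i).code := by
    simp only [vecOf, cel, code4]
    fin_cases i <;> simp <;> omega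
  cases hv : v i
  cases hw : vecOf 4 (code4 v) i
  rw [hv, hw] at hcode
  exact congrArg K4.mk (Fin.ext hcode)

/-- the product in length four -/
def h4 (z w : Fin 4 → K4) : K4 :=
  z 0 * (w 0 * w 0) + z 1 * (w 1 * w 1) + z 2 * (w 2 * w 2) + z 3 * (w 3 * w 3)

theorem perpChk : (List.range 256).all (fun a => (List.range 256).any fun b =>
    decide (h4 (vecOf 4 b) (vecOf 4 b) = 1) && decide (h4 (vecOf 4 b) (vecOf 4 a) = 0)) = true := by
  decide +kernel

/-- the code of a vector of length five -/
def code5' (v : Fin 5 → K4) : ℕ :=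
  (v 0).code.val + 4 * (v 1).code.val + 16 * (v 2).code.val + 64 * (v 3).code.val + 256 * (v 4).code.val

theorem code5'_spec (v : Fin 5 → K4) : code5' v < 1024 ∧ vecOf 5 (code5' v) = v := by
  have key : ∀ a : K4, a.code.val < 4 := fun a => a.code.isLt
  have := key (v 0); have := key (v 1); have := key (v 2); have := key (v 3); have := key (v 4)
  refine ⟨by unfold code5'; omega, funext fun i => ?_⟩
  have hcode : ((vecOf 5 (code5' v) i).code : ℕ) = (v i).code := by
    simp only [vecOf, cel, code5']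
    fin_cases i <;> simp <;> omega
  cases hv : v i
  cases hw : vecOf 5 (code5' v) i
  rw [hv, hw] at hcode
  exact congrArg K4.mk (Fin.ext hcode)

/-- the product in length five -/
def h5 (z w : Fin 5 → K4) : K4 :=
  z 0 * (w 0 * w 0) + z 1 * (w 1 * w 1) + z 2 * (w 2 * w 2) + z 3 * (w 3 * w 3) + z 4 * (w 4 * w 4)

theorem pairChk : (List.range 1024).all (fun a => Nat.beq a 0 || decide (h5 (vecOf 5 a) (vecOf 5 a) ≠ 0) ||
    (List.range 1024).any fun b =>
      decide (h5 (vecOf 5 b) (vecOf 5 b) = 1) && decide (h5 (vecOf 5 a) (vecOf 5 b) = 1)) = true := by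
  decide +kernel

theorem hermForm_four (z w : Fin 4 → K4) : hermForm 4 K4 2 z w = h4 z w := by
  simp [hermForm, Fin.sum_univ_four, h4, pow_two]

theorem hermForm_five (z w : Fin 5 → K4) : hermForm 5 K4 2 z w = h5 z w := by
  simp [hermForm, Fin.sum_univ_five, h5, pow_two]

theorem exists_perp_four (w : Fin 4 → K4) :
    ∃ z : Fin 4 → K4, hermForm 4 K4 2 z z = 1 ∧ hermForm 4 K4 2 z w = 0 := by
  obtain ⟨h, e⟩ := code4_spec w
  obtain ⟨b, -, hb⟩ := List.any_eq_true.1 (List.all_eq_true.1 perpChk _ (List.mem_range.2 h))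
  simp only [Bool.and_eq_true, decide_eq_true_eq, e] at hb
  exact ⟨_, (hermForm_four _ _).trans hb.1, (hermForm_four _ _).trans hb.2⟩

theorem exists_unit_five {r : Fin 5 → K4} (hr : r ≠ 0) (hr0 : hermForm 5 K4 2 r r = 0) :
    ∃ u : Fin 5 → K4, hermForm 5 K4 2 u u = 1 ∧ hermForm 5 K4 2 r u = 1 := by
  obtain ⟨h, e⟩ := code5'_spec r
  have hc := List.all_eq_true.1 pairChk _ (List.mem_range.2 h)
  simp only [Bool.or_eq_true, Nat.beq_eq, decide_eq_true_eq, List.any_eq_true, Bool.and_eq_true, e] at hc
  rcases hc with (hc | hc) | ⟨b, -, hb⟩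
  · exact absurd (by rw [← e, hc]; decide) hr
  · exact absurd ((hermForm_five _ _).symm.trans hr0) hc
  · exact ⟨_, (hermForm_five _ _).trans hb.1, (hermForm_five _ _).trans hb.2⟩

end CfsgLib.USixMult
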