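import Cfsg.Agent.Lib.Classical.USixTwoLift
import Cfsg.Agent.Lib.USixMult.Vectors

/-!
The vertices next to both `e₀` and `e₀ + r₀` fall into four classes, permuted by a four-group.
-/

set_option autoImplicit false
set_option Elab.async false
set_option maxRecDepth 100000

namespace CfsgLib.USixMult

open Matrix Cfsg
open CfsgLib.HePres (K4)

/-- the isotropic vector -/
def vR : Fin 6 → K4 := ![0, 1, 1, 0, 0, 0]

/-- the first representative -/
def vA : Fin 6 → K4 := ![0, 0, 0, 0, 0, 1]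

/-- the two symmetries -/
def sTab : List (List (List ℕ)) := [[[1, 1, 1], [1, 2, 3], [1, 3, 2]], [[1, 1, 3], [1, 2, 2], [2, 1, 2]]]

/-- their matrices -/
def sM (k : Fin 2) : Matrix (Fin 6) (Fin 6) K4 := Matrix.of fun i j =>
  if (i : ℕ) < 3 ∨ (j : ℕ) < 3 then (if i = j then 1 else 0)
  else cel (((sTab.getD k []).getD ((i : ℕ) - 3) []).getD ((j : ℕ) - 3) 0)

/-- the product in length six -/
def h6 (z w : Fin 6 → K4) : K4 :=
  z 0 * (w 0 * w 0) + z 1 * (w 1 * w 1) + z 2 * (w 2 * w 2) + z 3 * (w 3 * w 3) + z 4 * (w 4 * w 4) +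
    z 5 * (w 5 * w 5)

theorem hermForm_six (z w : Fin 6 → K4) : hermForm 6 K4 2 z w = h6 z w := by
  simp [hermForm, Fin.sum_univ_six, h6, pow_two]

/-- the code of a vector -/
def code6 (v : Fin 6 → K4) : ℕ :=
  (v 0).code.val + 4 * (v 1).code.val + 16 * (v 2).code.val + 64 * (v 3).code.val +
    256 * (v 4).code.val + 1024 * (v 5).code.val

theorem code6_spec (v : Fin 6 → K4) : code6 v < 4096 ∧ vecOf 6 (code6 v) = v := by
  have key : ∀ a : K4, a.code.val < 4 := fun a => a.code.isLt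
  have := key (v 0); have := key (v 1); have := key (v 2)
  have := key (v 3); have := key (v 4); have := key (v 5)
  refine ⟨by unfold code6; omega, funext fun i => ?_⟩
  have hcode : ((vecOf 6 (code6 v) i).code : ℕ) = (v i).code := by
    simp only [vecOf, cel, code6]
    fin_cases i <;> simp <;> omega
  cases hv : v i
  cases hw : vecOf 6 (code6 v) i
  rw [hv, hw] at hcode
  exact congrArg K4.mk (Fin.ext hcode)

theorem sM_gram : ∀ k : Fin 2, ∀ a b : Fin 6,
    ∑ i, sM k i a * sM k i b ^ 2 = if a = b then (1 : K4) else 0 := by decide +kernel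

theorem sM_four : ∀ k : Fin 2, sM k * sM k * (sM k * sM k) = 1 := by decide +kernel

/-- the second representative -/
def vB : Fin 6 → K4 := ![0, 0, 0, cel 1, cel 3, cel 2]

/-- the third representative -/
def vC : Fin 6 → K4 := ![0, 0, 0, cel 3, cel 2, cel 2]

/-- the fourth representative -/
def vD : Fin 6 → K4 := ![0, 0, 0, cel 3, cel 1, cel 1]

/-- the representatives -/
def mids : List (Fin 6 → K4) := [vA, vB, vC, vD]

/-- the twelve lines of the last three coordinates -/
def lines : List (List ℕ) :=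
  [[0, 0, 1], [0, 1, 0], [1, 0, 0], [1, 1, 1], [1, 2, 3], [1, 3, 2],
   [1, 1, 2], [1, 2, 1], [1, 3, 3], [1, 1, 3], [1, 2, 2], [1, 3, 1]]

/-- a vector of a line -/
def lineVec (j : ℕ) : Fin 6 → K4 := fun i =>
  if (i : ℕ) < 3 then 0 else cel ((lines.getD j []).getD ((i : ℕ) - 3) 0)

theorem sM_vals : ∀ k : Fin 2, sM k *ᵥ (Pi.single 0 1) = Pi.single 0 1 ∧ sM k *ᵥ vR = vR ∧
    h6 (sM k *ᵥ (sM k *ᵥ vA)) vA = 0 := by decide +kernel

theorem mids_vals : sM 0 *ᵥ vA = vB ∧ sM 1 *ᵥ vA = vC ∧ sM 0 *ᵥ vC = vD := by decide +kernel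

theorem base_vals : h6 vR vR = 0 ∧ vR ≠ 0 ∧ vR 0 = 0 ∧
    (∀ i : Fin 4, h6 (mids.getD i 0) (mids.getD i 0) = 1 ∧ mids.getD i 0 0 = 0 ∧
      h6 (mids.getD i 0) vR = 0) := by decide +kernel

theorem lines_vals : ∀ j : Fin 12, h6 (lineVec j) (lineVec j) = 1 ∧ lineVec j 0 = 0 ∧
    h6 (lineVec j) vR = 0 := by decide +kernel

/-- one vector in the classification -/
def midChk (n : ℕ) : Bool :=
  let z := vecOf 6 n
  decide (h6 z z ≠ 1) || decide (z 0 ≠ 0) || decide (h6 z vR ≠ 0) ||
    (List.range 4).any fun i => decide (h6 z (mids.getD i 0) = 0) ||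
      (List.range 12).any fun j => decide (h6 z (lineVec j) = 0) && decide (h6 (lineVec j) (mids.getD i 0) = 0)

theorem midChk_all : (List.range 4096).all midChk = true := by decide +kernel

/-- Every vertex next to both is joined to a representative. -/
theorem mid_reach {z : Fin 6 → K4} (h1 : hermForm 6 K4 2 z z = 1) (h0 : z 0 = 0)
    (hr : hermForm 6 K4 2 z vR = 0) : ∃ i : Fin 4, hermForm 6 K4 2 z (mids.getD i 0) = 0 ∨
      ∃ j : Fin 12, hermForm 6 K4 2 z (lineVec j) = 0 ∧
        hermForm 6 K4 2 (lineVec j) (mids.getD i 0) = 0 := by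
  obtain ⟨h, e⟩ := code6_spec z
  have hc := List.all_eq_true.1 midChk_all _ (List.mem_range.2 h)
  rw [hermForm_six] at h1 hr
  simp only [midChk, e, Bool.or_eq_true, decide_eq_true_eq, List.any_eq_true, Bool.and_eq_true,
    List.mem_range] at hc
  rcases hc with ((hc | hc) | hc) | ⟨i, hi, hc⟩
  · exact absurd h1 hc
  · exact absurd h0 hc
  · exact absurd hr hc
  refine ⟨⟨i, hi⟩, ?_⟩
  rcases hc with hc | ⟨j, hj, hc1, hc2⟩
  · exact Or.inl ((hermForm_six _ _).trans hc)
  · exact Or.inr ⟨⟨j, hj⟩, (hermForm_six _ _).trans hc1, (hermForm_six _ _).trans hc2⟩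

/-- A matrix with unit Gram matrix is an isometry. -/
theorem isometry_of_gram' {n : ℕ} {M : Matrix (Fin n) (Fin n) K4}
    (h : ∀ a b, ∑ i, M i a * M i b ^ 2 = if a = b then (1 : K4) else 0) (u v : Fin n → K4) :
    hermForm n K4 2 (M *ᵥ u) (M *ᵥ v) = hermForm n K4 2 u v := by
  show ∑ i, (M *ᵥ u) i * ((M *ᵥ v) i) ^ 2 = ∑ a, u a * v a ^ 2
  simp only [Matrix.mulVec, dotProduct]
  conv_lhs => arg 2; ext i; arg 2; rw [CharTwo.sum_sq]
  simp only [mul_pow, Finset.sum_mul, Finset.mul_sum]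
  rw [Finset.sum_comm]
  refine Finset.sum_congr rfl fun a _ => ?_
  rw [Finset.sum_comm]
  have e : ∀ b, ∑ i, M i b * u b * (M i a ^ 2 * v a ^ 2) = (if b = a then u b * v a ^ 2 else 0) := by
    intro b
    rw [show (if b = a then u b * v a ^ 2 else 0) = (if b = a then (1 : K4) else 0) * (u b * v a ^ 2) by
      split_ifs <;> simp, ← h b a, Finset.sum_mul]
    exact Finset.sum_congr rfl fun i _ => by ring
  refine (Finset.sum_congr rfl fun b _ => ((Finset.sum_congr rfl fun i _ => by ring).trans (e b))).trans ?_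
  simp

/-- The symmetries lie in the group. -/
theorem exists_sym (k : Fin 2) : ∃ g : SUn 6, ∀ w, act g w = sM k *ᵥ w := by
  obtain ⟨g, hg⟩ := Classical.USixTwoLift.exists_su K4.card_eq (sM k) (isometry_of_gram' (sM_gram k))
    (by rw [pow_succ, pow_succ, pow_two, ← sM_four k]; simp only [mul_assoc])
  exact ⟨g, fun w => by rw [act, hg]⟩

end CfsgLib.USixMult
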