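import Cfsg.Agent.Lib.Schur.CoverLocal
import Cfsg.Agent.Lib.USixMult.Vectors

/-!
The graph of vectors of norm one in the six-dimensional Hermitian space over four elements.
-/

set_option autoImplicit false
set_option maxRecDepth 100000

namespace CfsgLib.USixMult

open Matrix Cfsg CfsgLib.Schur
open CfsgLib.HePres (K4)
open scoped commutatorElement

/-- the vertices -/
@[ext]
structure Vtx where
  /-- the vector -/
  vec : Fin 6 → K4
  /-- it has norm one -/
  norm : hermForm 6 K4 2 vec vec = 1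

instance : MulAction (SUn 6) Vtx where
  smul g x := ⟨act g x.vec, (hh_act g _ _).trans x.norm⟩
  one_smul x := Vtx.ext (act_one _)
  mul_smul g h x := Vtx.ext (act_mul g h _)

theorem smul_vec (g : SUn 6) (x : Vtx) : (g • x).vec = act g x.vec := rfl

/-- the edges -/
def Adj (x y : Vtx) : Prop := hermForm 6 K4 2 x.vec y.vec = 0

/-- the third vertices -/
def Third (x y z : Vtx) : Prop := Adj x y ∧ Adj z x ∧ Adj z y

/-- the base vertex -/
def v0 : Vtx := ⟨e0, single_self _⟩

theorem adj_symm {x y : Vtx} (h : Adj x y) : Adj y x := swap_zero h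

theorem adj_smul (g : SUn 6) (x y : Vtx) (h : Adj x y) : Adj (g • x) (g • y) :=
  (hh_act g _ _).trans h

/-- the coordinate vertices -/
def coord (i : Fin 6) : Vtx := ⟨Pi.single i 1, single_self _⟩

theorem coord_adj {i j : Fin 6} (h : i ≠ j) : Adj (coord i) (coord j) := by
  show hermForm 6 K4 2 (Pi.single i 1) (Pi.single j 1) = 0
  rw [Classical.Herm.h_single KC, Pi.single_eq_of_ne h.symm]

theorem map_pair {x y x' y' : Vtx} (h : Adj x y) (h' : Adj x' y') :
    ∃ g : SUn 6, g • x = x' ∧ g • y = y' := by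
  obtain ⟨g, hg⟩ := frame_trans (n := 6) (k := 2) (by norm_num) ![x.vec, y.vec] ![x'.vec, y'.vec]
    (fun i => by fin_cases i <;> simp [x.norm, y.norm])
    (fun i j hij => by
      fin_cases i <;> fin_cases j <;> simp at hij ⊢
      exacts [h, adj_symm h])
    (fun i => by fin_cases i <;> simp [x'.norm, y'.norm])
    (fun i j hij => by
      fin_cases i <;> fin_cases j <;> simp at hij ⊢
      exacts [h', adj_symm h'])
  exact ⟨g, Vtx.ext (hg 0), Vtx.ext (hg 1)⟩

theorem map_triple {x y z x' y' z' : Vtx} (h : Third x y z) (h' : Third x' y' z') :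
    ∃ g : SUn 6, g • x = x' ∧ g • y = y' ∧ g • z = z' := by
  obtain ⟨g, hg⟩ := frame_trans (n := 6) (k := 3) (by norm_num) ![x.vec, y.vec, z.vec]
    ![x'.vec, y'.vec, z'.vec]
    (fun i => by fin_cases i <;> simp [x.norm, y.norm, z.norm])
    (fun i j hij => by
      fin_cases i <;> fin_cases j <;> simp at hij ⊢
      exacts [h.1, adj_symm h.2.1, adj_symm h.1, adj_symm h.2.2, h.2.1, h.2.2])
    (fun i => by fin_cases i <;> simp [x'.norm, y'.norm, z'.norm])
    (fun i j hij => by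
      fin_cases i <;> fin_cases j <;> simp at hij ⊢
      exacts [h'.1, adj_symm h'.2.1, adj_symm h'.1, adj_symm h'.2.2, h'.2.1, h'.2.2])
  exact ⟨g, Vtx.ext (hg 0), Vtx.ext (hg 1), Vtx.ext (hg 2)⟩

instance pretransitive : MulAction.IsPretransitive (SUn 6) Vtx := by
  refine ⟨fun x y => ?_⟩
  obtain ⟨g, hg⟩ := frame_trans (n := 6) (k := 1) (by norm_num) ![x.vec] ![y.vec]
    (fun i => by fin_cases i; simp [x.norm]) (fun i j hij => absurd (Subsingleton.elim i j) hij)
    (fun i => by fin_cases i; simp [y.norm]) (fun i j hij => absurd (Subsingleton.elim i j) hij)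
  exact ⟨g, Vtx.ext (hg 0)⟩

/-- A vector of norm one orthogonal to an edge and to any given vector. -/
theorem exists_perp {x y : Vtx} (h : Adj x y) (w : Fin 6 → K4) :
    ∃ z : Vtx, Adj z x ∧ Adj z y ∧ hermForm 6 K4 2 z.vec w = 0 := by
  obtain ⟨g, hx, hy⟩ := map_pair (coord_adj (show (0 : Fin 6) ≠ 1 by decide)) h
  set w' := act g⁻¹ w
  obtain ⟨z, hz1, hz2⟩ := exists_perp_four fun i => w' i.succ.succ
  let z6 : Fin 6 → K4 := Fin.cons 0 (Fin.cons 0 z)
  have hn : hermForm 6 K4 2 z6 z6 = 1 := by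
    simp only [z6, hh_cons, zero_mul, zero_add, hz1]
  refine ⟨g • ⟨z6, hn⟩, ?_, ?_, ?_⟩
  · rw [← hx]
    refine adj_smul g _ _ ?_
    show hermForm 6 K4 2 z6 (Pi.single 0 1) = 0
    rw [Classical.Herm.h_single KC]
    rfl
  · rw [← hy]
    refine adj_smul g _ _ ?_
    show hermForm 6 K4 2 z6 (Pi.single 1 1) = 0
    rw [Classical.Herm.h_single KC]
    rfl
  · rw [smul_vec, show w = act g w' by rw [← act_mul, mul_inv_cancel, act_one], hh_act,
      ← Fin.cons_self_tail w']
    show hermForm 6 K4 2 z6 (Fin.cons (w' 0) (Fin.tail w')) = 0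
    rw [show z6 = Fin.cons 0 (Fin.cons 0 z) from rfl, hh_cons, zero_mul, zero_add,
      ← Fin.cons_self_tail (Fin.tail w'), hh_cons, zero_mul, zero_add]
    exact hz2

theorem exists_neighbour (x : Vtx) : ∃ u, Adj x u := by
  obtain ⟨g, hg⟩ := MulAction.exists_smul_eq (SUn 6) (coord 0) x
  exact ⟨g • coord 1, hg ▸ adj_smul g _ _ (coord_adj (by decide))⟩

theorem exists_common (v x : Vtx) : ∃ z, Adj v z ∧ Adj z x := by
  obtain ⟨u, hu⟩ := exists_neighbour x
  obtain ⟨z, h1, -, h3⟩ := exists_perp hu v.vec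
  exact ⟨z, adj_symm h3, h1⟩

theorem three (v : Vtx) : CoverGraph.Three Adj v := fun x y hxy => by
  obtain ⟨z, h1, h2, h3⟩ := exists_perp hxy v.vec
  exact Or.inl ⟨z, adj_symm h3, h1, h2⟩

theorem stab_eq : MulAction.stabilizer (SUn 6) v0 = (ext (n := 5)).range := by
  ext g
  rw [MulAction.mem_stabilizer_iff]
  constructor
  · intro h
    exact exists_ext (congrArg Vtx.vec h)
  · rintro ⟨h, rfl⟩
    exact Vtx.ext (ext_fix h)

theorem stab_perfect :
    ⁅MulAction.stabilizer (SUn 6) v0, MulAction.stabilizer (SUn 6) v0⁆ = MulAction.stabilizer (SUn 6) v0 := by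
  rw [stab_eq, MonoidHom.range_eq_map, ← Subgroup.map_commutator, ← commutator_def, perfect (by norm_num)]

theorem edge_stab_eq : MulAction.stabilizer (SUn 6) v0 ⊓ MulAction.stabilizer (SUn 6) (coord 1) =
    ((ext (n := 5)).comp (ext (n := 4))).range := by
  have he : ∀ i : Fin 5, (e0 : Fin 5 → K4) i = (Pi.single (1 : Fin 6) (1 : K4) : Fin 6 → K4) i.succ := by
    intro i; fin_cases i <;> simp [e0]
  have hc : (Pi.single (1 : Fin 6) (1 : K4) : Fin 6 → K4) = Fin.cons 0 e0 := funext fun i => by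
    induction i using Fin.cases with
    | zero => simp
    | succ i => simp [he]
  ext g
  rw [Subgroup.mem_inf, stab_eq, MulAction.mem_stabilizer_iff]
  constructor
  · rintro ⟨⟨h, rfl⟩, h1⟩
    have h1' : act (ext h) (Pi.single 1 1) = Pi.single 1 1 := congrArg Vtx.vec h1
    rw [hc, act_ext] at h1'
    obtain ⟨k, rfl⟩ := exists_ext (g := h) (by
      have h2 := Fin.cons_right_injective (α := fun _ => K4) _ h1'
      simpa using h2)
    exact ⟨k, rfl⟩
  · rintro ⟨k, rfl⟩
    refine ⟨⟨_, rfl⟩, Vtx.ext ?_⟩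
    show act (ext (ext k)) (Pi.single 1 1) = Pi.single 1 1
    rw [hc, act_ext]
    simp only [Fin.cons_zero, Fin.cons_succ]
    rw [ext_fix]

/-- The stabiliser of an edge is perfect. -/
theorem edge_perfect {x y : Vtx} (h : Adj x y) :
    MulAction.stabilizer (SUn 6) x ⊓ MulAction.stabilizer (SUn 6) y ≤
      ⁅MulAction.stabilizer (SUn 6) x ⊓ MulAction.stabilizer (SUn 6) y,
        MulAction.stabilizer (SUn 6) x ⊓ MulAction.stabilizer (SUn 6) y⁆ := by
  obtain ⟨g, hx, hy⟩ := map_pair (coord_adj (show (0 : Fin 6) ≠ 1 by decide)) h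
  rw [← hx, ← hy, MulAction.stabilizer_smul_eq_stabilizer_map_conj,
    MulAction.stabilizer_smul_eq_stabilizer_map_conj,
    ← Subgroup.map_inf _ _ _ (MulAut.conj g).injective, ← Subgroup.map_commutator]
  refine Subgroup.map_mono (le_of_eq ?_)
  show MulAction.stabilizer (SUn 6) v0 ⊓ MulAction.stabilizer (SUn 6) (coord 1) =
    ⁅MulAction.stabilizer (SUn 6) v0 ⊓ MulAction.stabilizer (SUn 6) (coord 1),
      MulAction.stabilizer (SUn 6) v0 ⊓ MulAction.stabilizer (SUn 6) (coord 1)⁆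
  rw [edge_stab_eq, MonoidHom.range_eq_map, ← Subgroup.map_commutator, ← commutator_def,
    perfect (by norm_num)]

/-- The local data of the graph. -/
theorem loc {Γ : Type*} [Group Γ] {σ : Γ →* SUn 6} (hs : Function.Surjective σ)
    (hinj : ∀ k ∈ CoverLocal.L σ (MulAction.stabilizer (SUn 6) v0), σ k = 1 → k = 1) :
    CoverLocal.Loc σ Adj Third v0 := by
  refine ⟨hs, adj_smul, fun x y h => adj_symm h, fun x y z h => h.1,
    fun g x y z ⟨h1, h2, h3⟩ => ⟨adj_smul g _ _ h1, adj_smul g _ _ h2, adj_smul g _ _ h3⟩,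
    fun x y z ⟨h1, h2, h3⟩ => ⟨adj_symm h1, h3, h2⟩, exists_neighbour v0, fun u hu => ?_,
    fun u z z' hz hz' => ?_, pretransitive, fun u z hz => ?_, fun u u' hu hu' => ?_,
    fun u w hu hw huw => ?_, stab_perfect, fun u hu => edge_perfect hu, fun u z hz k hk hkv => ?_, hinj⟩
  · obtain ⟨z, h1, h2, -⟩ := exists_perp hu 0
    exact ⟨z, hu, h1, h2⟩
  · obtain ⟨g, h1, h2, h3⟩ := map_triple hz hz'
    exact ⟨g, h1, h2, h3⟩
  · obtain ⟨g, h1, h2⟩ := map_pair hz.2.1 hz.2.2
    exact ⟨g, h1, h2⟩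
  · exact map_pair hu hu'
  · obtain ⟨z, h1, h2, h3⟩ := exists_perp hu w.vec
    exact ⟨z, ⟨hu, h1, h2⟩, ⟨huw, h2, h3⟩, ⟨hw, h1, h3⟩⟩
  · exact CoverLocal.mem_of_perfect_inf hs (CoverLocal.inj_of_trans hs hinj z)
      (edge_perfect (adj_symm hz.2.1)) hk hkv

end CfsgLib.USixMult
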