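import Cfsg.Agent.Lib.OmegaSevenMult.Shift
import Cfsg.Agent.Lib.USixMult.Graph
import Cfsg.Agent.Lib.USixMult.Config

/-!
# The quadrangles of the graph of vectors of norm one

In a central extension of `SU₆(2)` split over a vertex stabiliser the differences of lifted paths of
length two form a group of order at most four.
-/

set_option autoImplicit false
set_option linter.unusedSectionVars false
set_option maxRecDepth 100000

namespace CfsgLib.USixMult

open Matrix Cfsg CfsgLib.Schur CfsgLib.OmegaSevenMult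
open CfsgLib.HePres (K4)

theorem add_self_vec {m : ℕ} (v : Fin m → K4) : v + v = 0 := funext fun i => CharTwo.add_self_eq_zero _

theorem h_e0 (z : Fin 6 → K4) : hermForm 6 K4 2 z e0 = z 0 := by
  unfold e0; rw [Classical.Herm.h_single KC]

/-- an element killing a subspace and not a vector outside -/
theorem e0_self : hermForm 6 K4 2 e0 e0 = 1 := by rw [h_e0]; simp [e0]

/-- an element killing a subspace and not a vector outside -/
theorem exists_dual {r : Fin 6 → K4} {s : Set (Fin 6 → K4)} (hr : r ∉ Submodule.span K4 s) (b : K4) :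
    ∃ u : Fin 6 → K4, (∀ q ∈ s, hermForm 6 K4 2 q u = 0) ∧ hermForm 6 K4 2 r u = b := by
  classical
  obtain ⟨f, hfr, hf⟩ := Submodule.exists_dual_map_eq_bot_of_notMem hr inferInstance
  let g : (Fin 6 → K4) →ₗ[K4] K4 := (b * (f r)⁻¹) • f
  let u : Fin 6 → K4 := fun i => (g (Pi.single i 1)) ^ 2
  have hu : ∀ x, hermForm 6 K4 2 x u = g x := fun x => by
    conv_rhs => rw [pi_eq_sum_univ' x]
    simp only [map_sum, map_smul, smul_eq_mul, hermForm, u, ← pow_mul]
    refine Finset.sum_congr rfl fun i _ => ?_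
    rw [show (2 * 2 : ℕ) = 4 from rfl, Classical.USixTwoLift.pow_four K4.card_eq]
  refine ⟨u, fun q hq => ?_, ?_⟩
  · have : f q = 0 := (Submodule.eq_bot_iff _).1 hf _ ⟨q, Submodule.subset_span hq, rfl⟩
    rw [hu, LinearMap.smul_apply, this, smul_zero]
  · rw [hu, LinearMap.smul_apply, smul_eq_mul, mul_assoc, inv_mul_cancel₀ hfr, mul_one]

/-- The stabiliser of the vertex is transitive on the isotropic vectors orthogonal to it. -/
theorem exists_move_iso {r : Fin 6 → K4} (hr : r ≠ 0) (hr0 : hermForm 6 K4 2 r r = 0) (hv : r 0 = 0) :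
    ∃ g : SUn 6, act g e0 = e0 ∧ act g vR = r := by
  have hrt : r = Fin.cons 0 (Fin.tail r) := by rw [← hv, Fin.cons_self_tail]
  have ht0 : Fin.tail r ≠ 0 := fun e => hr (by
    rw [hrt, e]; funext i; induction i using Fin.cases <;> rfl)
  obtain ⟨u, hu1, hu2⟩ := exists_unit_five ht0 (by
    rw [hrt, hh_cons, zero_mul, zero_add] at hr0; exact hr0)
  set u6 : Fin 6 → K4 := Fin.cons 0 u with hu6
  have n1 : hermForm 6 K4 2 u6 u6 = 1 := by rw [hu6, hh_cons, zero_mul, zero_add, hu1]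
  have c1 : hermForm 6 K4 2 r u6 = 1 := by rw [hu6, hrt, hh_cons, zero_mul, zero_add, hu2]
  have c2 : hermForm 6 K4 2 u6 r = 1 := by rw [swap, c1, one_pow]
  have n2 : hermForm 6 K4 2 (r + u6) (r + u6) = 1 := by
    rw [add_left, add_right, add_right, hr0, c1, c2, n1, zero_add, CharTwo.add_self_eq_zero, add_zero]
  have o12 : hermForm 6 K4 2 u6 (r + u6) = 0 := by rw [add_right, c2, n1, CharTwo.add_self_eq_zero]
  have o01 : hermForm 6 K4 2 u6 e0 = 0 := by rw [h_e0, hu6, Fin.cons_zero]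
  have o02 : hermForm 6 K4 2 (r + u6) e0 = 0 := by rw [h_e0, Pi.add_apply, hv, hu6, Fin.cons_zero, add_zero]
  have hT : Third v0 ⟨u6, n1⟩ ⟨r + u6, n2⟩ :=
    ⟨swap_zero o01, o02, swap_zero o12⟩
  have hT0 : Third v0 (coord 1) (coord 2) :=
    ⟨coord_adj (i := 0) (j := 1) (by decide), coord_adj (i := 2) (j := 0) (by decide),
      coord_adj (i := 2) (j := 1) (by decide)⟩
  obtain ⟨g, g0, g1, g2⟩ := map_triple hT0 hT
  refine ⟨g, congrArg Vtx.vec g0, ?_⟩
  have e : vR = Pi.single 1 1 + Pi.single 2 1 := by decide +kernel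
  rw [e, act_add, show act g (Pi.single 1 1) = u6 from congrArg Vtx.vec g1,
    show act g (Pi.single 2 1) = r + u6 from congrArg Vtx.vec g2, add_comm r, ← add_assoc, add_self_vec,
    zero_add]

variable {Γ : Type*} [Group Γ] {σ : Γ →* SUn 6} {K : Subgroup Γ} {n : Γ}
variable (H : CoverGraph.Hyp σ Adj v0 K n) (hc : σ.ker ≤ Subgroup.center Γ)
include H hc

/-- With `x` in the span of the vertex and two midpoints the paths are joined. -/
theorem shift_flat {x z z' : Vtx} (hvz : Adj v0 z) (hvz' : Adj v0 z') (hz'x : Adj z' x)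
    (hx : x.vec ∈ Submodule.span K4 ({e0, z.vec, z'.vec} : Set (Fin 6 → K4))) :
    Shift σ v0 K n x 1 z z' := by
  obtain ⟨w, hwv, hwz, hwz'⟩ := exists_perp hvz z'.vec
  have hwx : Adj w x := by
    have key : ∀ q ∈ Submodule.span K4 ({e0, z.vec, z'.vec} : Set (Fin 6 → K4)),
        hermForm 6 K4 2 q w.vec = 0 := fun q hq => by
      induction hq using Submodule.span_induction with
      | mem q hq =>
        simp only [Set.mem_insert_iff, Set.mem_singleton_iff] at hq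
        rcases hq with rfl | rfl | rfl
        exacts [swap_zero hwv, swap_zero hwz, swap_zero hwz']
      | zero => simp [hermForm]
      | add a b _ _ ha hb => rw [add_left, ha, hb, add_zero]
      | smul c a _ ha => rw [smul_left, ha, mul_zero]
    exact swap_zero (key _ hx)
  exact shift_path H hc hvz'
    (.tail (.single (b := w) ⟨adj_symm hwz, adj_symm hwv, hwx⟩) ⟨hwz', hvz', hz'x⟩)

/-- The differences are products of two commuting involutions. -/
theorem exists_defect : ∃ δ₁ δ₂ : Γ, σ δ₁ = 1 ∧ σ δ₂ = 1 ∧ δ₁ * δ₁ = 1 ∧ δ₂ * δ₂ = 1 ∧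
    ∀ x z z' : Vtx, Adj v0 z → Adj z x → Adj v0 z' → Adj z' x → ¬ Adj v0 x →
      ∃ h ∈ ({1, δ₁, δ₂, δ₁ * δ₂} : Set Γ), Shift σ v0 K n x h z z' := by
  have hbv := base_vals
  have hR0 : hermForm 6 K4 2 vR vR = 0 := (hermForm_six _ _).trans hbv.1
  have hRv : hermForm 6 K4 2 vR e0 = 0 := by rw [h_e0]; exact hbv.2.2.1
  let x₀ : Vtx := ⟨e0 + vR, by
    rw [add_left, add_right, add_right, e0_self, swap_zero hRv, hRv, hR0, add_zero, add_zero,
      add_zero]⟩
  have hcom : ∀ z : Vtx, (Adj v0 z ∧ Adj z x₀) ↔ (z.vec 0 = 0 ∧ hermForm 6 K4 2 z.vec vR = 0) := by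
    intro z
    show (hermForm 6 K4 2 e0 z.vec = 0 ∧ hermForm 6 K4 2 z.vec (e0 + vR) = 0) ↔ _
    rw [add_right, h_e0]
    constructor
    · rintro ⟨h1, h2⟩
      have h0 : z.vec 0 = 0 := by rw [← h_e0 z.vec]; exact swap_zero h1
      exact ⟨h0, by rwa [h0, zero_add] at h2⟩
    · rintro ⟨h1, h2⟩
      exact ⟨swap_zero ((h_e0 z.vec).trans h1), by rw [h1, h2, add_zero]⟩
  obtain ⟨s₁, hs₁⟩ := exists_sym 0
  obtain ⟨s₂, hs₂⟩ := exists_sym 1
  have hfix : ∀ {s : SUn 6} {k : Fin 2}, (∀ w, act s w = sM k *ᵥ w) → s • v0 = v0 ∧ s • x₀ = x₀ := by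
    intro s k hs
    refine ⟨Vtx.ext ?_, Vtx.ext ?_⟩
    · show act s e0 = e0
      rw [hs]; exact (sM_vals k).1
    · show act s (e0 + vR) = e0 + vR
      rw [act_add, hs, hs, (sM_vals k).2.1]
      unfold e0
      rw [(sM_vals k).1]
  obtain ⟨hs₁v, hs₁x⟩ := hfix hs₁
  obtain ⟨hs₂v, hs₂x⟩ := hfix hs₂
  let P : Fin 4 → Vtx := fun i => ⟨mids.getD i 0, (hermForm_six _ _).trans (hbv.2.2.2 i).1⟩
  have hP : ∀ i, Adj v0 (P i) ∧ Adj (P i) x₀ := fun i =>
    (hcom (P i)).2 ⟨(hbv.2.2.2 i).2.1, (hermForm_six _ _).trans (hbv.2.2.2 i).2.2⟩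
  have hP1 : s₁ • P 0 = P 1 := Vtx.ext ((hs₁ _).trans mids_vals.1)
  have hP2 : s₂ • P 0 = P 2 := Vtx.ext ((hs₂ _).trans mids_vals.2.1)
  have hP3 : s₁ • P 2 = P 3 := Vtx.ext ((hs₁ _).trans mids_vals.2.2)
  have hmove : ∀ {s : SUn 6}, s • v0 = v0 → s • x₀ = x₀ → ∀ {z}, Adj v0 z ∧ Adj z x₀ →
      Adj v0 (s • z) ∧ Adj (s • z) x₀ := fun {s} hv hx {z} hz =>
    ⟨by have := H.adj_smul s _ _ hz.1; rwa [hv] at this,
      by have := H.adj_smul s _ _ hz.2; rwa [hx] at this⟩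
  obtain ⟨δ₁, h₁⟩ := shift_exists H hc (hP 0).1 (hP 0).2 (hP 1).1 (hP 1).2
  obtain ⟨δ₂, h₂⟩ := shift_exists H hc (hP 0).1 (hP 0).2 (hP 2).1 (hP 2).2
  have hpush : ∀ {s : SUn 6}, s • v0 = v0 → s • x₀ = x₀ → ∀ {k : Γ} {p q : Vtx},
      Shift σ v0 K n x₀ k p q → Shift σ v0 K n x₀ k (s • p) (s • q) := fun {s} hv hx {k p q} h => by
    have := shift_smul H hc hv h; rwa [hx] at this
  have hback : ∀ {s : SUn 6} {k : Fin 2}, (∀ w, act s w = sM k *ᵥ w) → s • v0 = v0 → s • x₀ = x₀ →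
      ∀ {q : Vtx}, s • P 0 = q → Shift σ v0 K n x₀ 1 (s • q) (P 0) := by
    intro s k hs hv hx q hq
    subst hq
    refine shift_path H hc (hP 0).1 (.single ⟨?_, (hP 0).1, (hP 0).2⟩)
    show hermForm 6 K4 2 (act s (act s vA)) vA = 0
    rw [hs, hs, hermForm_six]
    exact (sM_vals k).2.2
  have hsq₁ : δ₁ * δ₁ = 1 := by
    have h' := hpush hs₁v hs₁x h₁
    rw [hP1] at h'
    have h'' := shift_trans H hc (shift_trans H hc h₁ h') (hback hs₁ hs₁v hs₁x hP1)
    rw [mul_one] at h''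
    exact shift_unique H hc (hP 0).1 (hP 0).2 h'' (shift_path H hc (hP 0).1 .refl)
  have hsq₂ : δ₂ * δ₂ = 1 := by
    have h' := hpush hs₂v hs₂x h₂
    rw [hP2] at h'
    have h'' := shift_trans H hc (shift_trans H hc h₂ h') (hback hs₂ hs₂v hs₂x hP2)
    rw [mul_one] at h''
    exact shift_unique H hc (hP 0).1 (hP 0).2 h'' (shift_path H hc (hP 0).1 .refl)
  have h₃ : Shift σ v0 K n x₀ (δ₁ * δ₂) (P 0) (P 3) := by
    have h' := hpush hs₁v hs₁x h₂
    rw [hP1, hP3] at h'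
    exact shift_trans H hc h₁ h'
  -- the subgroup of the differences
  have hcomm : δ₁ * δ₂ = δ₂ * δ₁ := comm_of_ker H hc h₂.1 δ₁
  let N : Subgroup Γ :=
    { carrier := {1, δ₁, δ₂, δ₁ * δ₂}
      one_mem' := by simp
      mul_mem' := by
        have e1 : ∀ a, δ₁ * (δ₁ * a) = a := fun a => by rw [← mul_assoc, hsq₁, one_mul]
        have e2 : ∀ a, δ₂ * (δ₂ * a) = a := fun a => by rw [← mul_assoc, hsq₂, one_mul]
        have e21 : δ₂ * δ₁ = δ₁ * δ₂ := hcomm.symm
        have e21' : ∀ a, δ₂ * (δ₁ * a) = δ₁ * (δ₂ * a) := fun a => by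
          rw [← mul_assoc, e21, mul_assoc]
        rintro a b (rfl | rfl | rfl | rfl) (rfl | rfl | rfl | rfl) <;>
          simp [mul_assoc, e1, e2, e21, e21', hsq₁, hsq₂]
      inv_mem' := by
        rintro a (rfl | rfl | rfl | rfl)
        · simp
        · rw [inv_eq_of_mul_eq_one_right hsq₁]; simp
        · rw [inv_eq_of_mul_eq_one_right hsq₂]; simp
        · rw [_root_.mul_inv_rev, inv_eq_of_mul_eq_one_right hsq₁, inv_eq_of_mul_eq_one_right hsq₂, ← hcomm]
          simp }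
  have hN1 : δ₁ ∈ N := Or.inr (Or.inl rfl)
  have hN2 : δ₂ ∈ N := Or.inr (Or.inr (Or.inl rfl))
  -- every midpoint of the base configuration
  have hbase : ∀ z, Adj v0 z ∧ Adj z x₀ → ∃ h ∈ N, Shift σ v0 K n x₀ h z (P 0) := by
    intro z hz
    obtain ⟨h0, h1⟩ := (hcom z).1 hz
    obtain ⟨i, hi⟩ := mid_reach z.norm h0 h1
    have hp : Shift σ v0 K n x₀ 1 z (P i) := by
      refine shift_path H hc (hP i).1 ?_
      rcases hi with hi | ⟨j, hj1, hj2⟩
      · exact .single ⟨hi, (hP i).1, (hP i).2⟩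
      · let w : Vtx := ⟨lineVec j, (hermForm_six _ _).trans (lines_vals j).1⟩
        have hw := (hcom w).2 ⟨(lines_vals j).2.1, (hermForm_six _ _).trans (lines_vals j).2.2⟩
        exact .tail (.single (b := w) ⟨hj1, hw.1, hw.2⟩) ⟨hj2, (hP i).1, (hP i).2⟩
    have hsym : ∀ {k : Γ}, k ∈ N → Shift σ v0 K n x₀ k (P 0) (P i) →
        ∃ h ∈ N, Shift σ v0 K n x₀ h z (P 0) := fun {k} hk hs =>
      ⟨1 * k⁻¹, mul_mem (one_mem N) (inv_mem hk),
        shift_trans H hc hp (shift_symm H hc (hP 0).1 (hP 0).2 hs)⟩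
    fin_cases i
    · exact ⟨1, one_mem N, hp⟩
    · exact hsym hN1 h₁
    · exact hsym hN2 h₂
    · exact hsym (mul_mem hN1 hN2) h₃
  -- the vertices with product one
  have hplus : ∀ x z z' : Vtx, Adj v0 z → Adj z x → Adj v0 z' → Adj z' x →
      hermForm 6 K4 2 x.vec e0 = 1 → ∃ h ∈ N, Shift σ v0 K n x h z z' := by
    intro x z z' hvz hzx hvz' hz'x hvx
    by_cases hflat : x.vec ∈ Submodule.span K4 ({e0, z.vec, z'.vec} : Set (Fin 6 → K4))
    · exact ⟨1, one_mem N, shift_flat H hc hvz hvz' hz'x hflat⟩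
    have hr : x.vec + e0 ≠ 0 := fun e => hflat (by
      rw [show x.vec = e0 by
        calc x.vec = x.vec + (e0 + e0) := by rw [add_self_vec, add_zero]
          _ = (x.vec + e0) + e0 := (add_assoc _ _ _).symm
          _ = e0 := by rw [e, zero_add]]
      exact Submodule.subset_span (Set.mem_insert _ _))
    have hvx' : hermForm 6 K4 2 e0 x.vec = 1 := by rw [swap, hvx, one_pow]
    have hr0 : hermForm 6 K4 2 (x.vec + e0) (x.vec + e0) = 0 := by
      rw [add_left, add_right, add_right, x.norm, hvx, hvx', e0_self]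
      simp [CharTwo.add_self_eq_zero]
    have hrv : (x.vec + e0 : Fin 6 → K4) 0 = 0 := by
      rw [← h_e0 (x.vec + e0), add_left, hvx, e0_self, CharTwo.add_self_eq_zero]
    obtain ⟨g, hgv, hgr⟩ := exists_move_iso hr hr0 hrv
    have hgv' : g • v0 = v0 := Vtx.ext hgv
    have hgx : g • x₀ = x := Vtx.ext (by
      show act g (e0 + vR) = x.vec
      rw [act_add, hgv, hgr, add_comm x.vec, ← add_assoc, add_self_vec, zero_add])
    have hback' : ∀ q, Adj v0 q → Adj q x → Adj v0 (g⁻¹ • q) ∧ Adj (g⁻¹ • q) x₀ := fun q h1 h2 =>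
      ⟨by have := H.adj_smul g⁻¹ _ _ h1; rwa [inv_smul_eq_iff.2 hgv'.symm] at this,
        by have := H.adj_smul g⁻¹ _ _ h2; rwa [inv_smul_eq_iff.2 hgx.symm] at this⟩
    obtain ⟨k, hk, hkz⟩ := hbase _ (hback' z hvz hzx)
    obtain ⟨k', hk', hkz'⟩ := hbase _ (hback' z' hvz' hz'x)
    have h := shift_smul H hc hgv'
      (shift_trans H hc hkz (shift_symm H hc (hback' z' hvz' hz'x).1 (hback' z' hvz' hz'x).2 hkz'))
    rw [hgx, smul_inv_smul, smul_inv_smul] at h
    exact ⟨k * k'⁻¹, mul_mem hk (inv_mem hk'), h⟩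
  refine ⟨δ₁, δ₂, h₁.1, h₂.1, hsq₁, hsq₂, fun x z z' hvz hzx hvz' hz'x hnadj => ?_⟩
  by_cases hflat : x.vec ∈ Submodule.span K4 ({e0, z.vec, z'.vec} : Set (Fin 6 → K4))
  · exact ⟨1, one_mem N, shift_flat H hc hvz hvz' hz'x hflat⟩
  set a := hermForm 6 K4 2 x.vec e0 with ha
  by_cases ha1 : a = 1
  · exact hplus x z z' hvz hzx hvz' hz'x ha1
  have ha0 : a ≠ 0 := fun e => hnadj (swap_zero e)
  set b := a + 1 with hb
  have hb0 : b ≠ 0 := fun e => ha1 (CharTwo.add_eq_zero.1 e)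
  obtain ⟨u, hu, hxu⟩ := exists_dual hflat b
  have hab : b + a = 1 := by rw [hb, add_comm a 1, add_assoc, CharTwo.add_self_eq_zero, add_zero]
  -- an isotropic vector orthogonal to the plane
  set r := x.vec + a • e0 with hr
  have hrx : ∀ w, hermForm 6 K4 2 e0 w = 0 → hermForm 6 K4 2 r w = hermForm 6 K4 2 x.vec w := fun w hw => by
    rw [hr, add_left, smul_left, hw, mul_zero, add_zero]
  have hrv : hermForm 6 K4 2 r e0 = 0 := by
    rw [hr, add_left, smul_left, ← ha, e0_self, mul_one, CharTwo.add_self_eq_zero]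
  have hcube : ∀ t : K4, t ≠ 0 → t ^ 2 * t = 1 ∧ t * t ^ 2 = 1 := by decide +kernel
  have hr0 : hermForm 6 K4 2 r r = 0 := by
    rw [hr, add_right, smul_right, hrv, mul_zero, add_zero, add_left, smul_left,
      swap x.vec e0, ← ha, x.norm, (hcube a ha0).2, CharTwo.add_self_eq_zero]
  have hru : hermForm 6 K4 2 r u = b := by rw [hrx u (hu _ (by simp)), hxu]
  obtain ⟨μ, hμ⟩ : ∃ μ : K4, μ ^ 2 * b ^ 2 + μ * b = hermForm 6 K4 2 u u := by
    have key : ∀ t : K4, t ^ 2 = t → ∀ b : K4, b ≠ 0 → ∃ μ : K4, μ ^ 2 * b ^ 2 + μ * b = t := by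
      decide +kernel
    exact key _ (swap u u).symm b hb0
  set s := u + μ • r with hs
  have hrz : ∀ q : Vtx, Adj v0 q → Adj q x → hermForm 6 K4 2 q.vec r = 0 := fun q h1 h3 => by
    rw [hr, add_right, smul_right, show hermForm 6 K4 2 q.vec x.vec = 0 from h3,
      show hermForm 6 K4 2 q.vec e0 = 0 from swap_zero h1, mul_zero, add_zero]
  have hsP : ∀ q ∈ ({e0, z.vec, z'.vec} : Set (Fin 6 → K4)), hermForm 6 K4 2 q s = 0 := by
    intro q hq
    rw [hs, add_right, smul_right, hu q hq, zero_add]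
    rcases hq with rfl | rfl | rfl
    · rw [swap r e0, hrv, zero_pow two_ne_zero, mul_zero]
    · rw [hrz z hvz hzx, mul_zero]
    · rw [hrz z' hvz' hz'x, mul_zero]
  have hrs : hermForm 6 K4 2 r s = b := by rw [hs, add_right, smul_right, hr0, mul_zero, add_zero, hru]
  have hs0 : hermForm 6 K4 2 s s = 0 := by
    rw [hs, add_left, add_right, add_right, smul_left, smul_left, smul_right, smul_right, hr0,
      swap r u, hru, mul_zero, mul_zero, add_zero, ← hμ, add_assoc]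
    exact CharTwo.add_self_eq_zero _
  have hes := hsP e0 (Set.mem_insert _ _)
  let y : Vtx := ⟨e0 + s, by
    rw [add_left e0 s, add_right e0 e0 s, add_right s e0 s, hs0, hes, swap_zero hes, e0_self, add_zero, add_zero,
      add_zero]⟩
  have hvy : hermForm 6 K4 2 y.vec e0 = 1 := by
    show hermForm 6 K4 2 (e0 + s) e0 = 1
    rw [add_left, swap_zero hes, e0_self, add_zero]
  have hzy : ∀ q : Vtx, Adj v0 q → q.vec ∈ ({e0, z.vec, z'.vec} : Set (Fin 6 → K4)) →
      Adj q y := fun q h1 hq => by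
    show hermForm 6 K4 2 q.vec (e0 + s) = 0
    rw [add_right, show hermForm 6 K4 2 q.vec e0 = 0 from swap_zero h1, hsP _ hq, add_zero]
  have hzy1 := hzy z hvz (by simp)
  have hzy2 := hzy z' hvz' (by simp)
  have hxy : hermForm 6 K4 2 x.vec y.vec = 1 := by
    show hermForm 6 K4 2 x.vec (e0 + s) = 1
    rw [add_right, ← ha, ← hrx s hes, hrs, add_comm a b, hab]
  obtain ⟨k, hk, hA⟩ := hplus y z z' hvz hzy1 hvz' hzy2 hvy
  obtain ⟨γy, hγy, -⟩ := OmegaThree.ends_exists H hvz hzy1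
  set g := σ γy
  have hgv : g⁻¹ • y = v0 := inv_smul_eq_iff.2 hγy.symm
  obtain ⟨k', hk', hB'⟩ := hplus (g⁻¹ • x) (g⁻¹ • z) (g⁻¹ • z')
    (hgv ▸ H.adj_smul g⁻¹ _ _ (adj_symm hzy1)) (H.adj_smul g⁻¹ _ _ hzx)
    (hgv ▸ H.adj_smul g⁻¹ _ _ (adj_symm hzy2)) (H.adj_smul g⁻¹ _ _ hz'x) (by
      show hermForm 6 K4 2 (g⁻¹ • x).vec v0.vec = 1
      rw [← hgv, smul_vec, smul_vec, hh_act, hxy])
  exact ⟨k * k', mul_mem hk hk', shift_compose H hc hγy hvz hzy1 hzx hA hB'⟩

end CfsgLib.USixMult
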