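import Cfsg.Agent.Lib.OmegaSevenMult.Modulo
import Cfsg.Agent.Lib.Schur.OmegaOdd
import Cfsg.Agent.Lib.USixMult.Defects
import Cfsg.Agent.Lib.USixMult.Five

/-!
# Perfect central extensions of `SU₆(2)`

The stabiliser of a vertex lifts uniquely, and the quadrangles give at most four differences.
-/

set_option autoImplicit false
set_option linter.style.haveILetI false

namespace CfsgLib.USixMult

open Cfsg CfsgLib.Schur CfsgLib.Schur.CoverLocal CfsgLib.OmegaSevenMult
open CfsgLib.HePres (K4)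

/-- An extension is injective on the lift of the stabiliser. -/
theorem lift_inj {Γ : Type} [Group Γ] [Finite Γ] (σ : Γ →* SUn 6) (hs : Function.Surjective σ)
    (hc : σ.ker ≤ Subgroup.center Γ) :
    ∀ k ∈ L σ (MulAction.stabilizer (SUn 6) v0), σ k = 1 → k = 1 := by
  set S := MulAction.stabilizer (SUn 6) v0 with hS
  have hmem : ∀ k : L σ S, σ k.1 ∈ (ext (n := 5)).range := fun k => stab_eq ▸ L_sigma k.2
  let σ' : L σ S →* SUn 5 :=
    (MonoidHom.ofInjective ext_injective).symm.toMonoidHom.comp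
      ((σ.comp (L σ S).subtype).codRestrict (ext (n := 5)).range hmem)
  have hfσ : ∀ k, ext (σ' k) = σ k.1 := fun k =>
    congrArg Subtype.val ((MonoidHom.ofInjective ext_injective).apply_symm_apply ⟨σ k.1, hmem k⟩)
  have hker : ∀ k, σ' k = 1 ↔ σ k.1 = 1 := fun k => by
    rw [← hfσ, map_eq_one_iff _ ext_injective]
  have hs' : Function.Surjective σ' := fun g => by
    obtain ⟨k, hk, ek⟩ := Subgroup.mem_map.1 (show ext g ∈ (L σ S).map σ by
      rw [map_L hs, hS, stab_perfect, stab_eq]; exact ⟨g, rfl⟩)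
    exact ⟨⟨k, hk⟩, ext_injective (by rw [hfσ]; exact ek)⟩
  have hc' : σ'.ker ≤ Subgroup.center (L σ S) := fun k hk => by
    rw [MonoidHom.mem_ker, hker] at hk
    rw [Subgroup.mem_center_iff]
    exact fun x => Subtype.ext (Subgroup.mem_center_iff.1 (hc hk) x.1)
  have hst : IsStemExtension σ' := ⟨hs', hc', by
    rw [show commutator (L σ S) = ⊤ from OmegaOdd.L_perfect hs hc stab_perfect]; exact le_top⟩
  intro k hk hk1
  exact congrArg Subtype.val (five_trivial σ' hst ⟨k, hk⟩ ((hker ⟨k, hk⟩).2 hk1))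

/-- The kernel has order at most four. -/
theorem card_ker_le {Γ : Type} [Group Γ] [Finite Γ] (σ : Γ →* SUn 6) (hs : Function.Surjective σ)
    (hc : σ.ker ≤ Subgroup.center Γ) (hΓ : commutator Γ = ⊤) : Nat.card σ.ker ≤ 4 := by
  classical
  have Hl := loc hs (lift_inj σ hs hc)
  obtain ⟨n, Hn, -, -⟩ := CoverLocal.exists_hyp Hl
  obtain ⟨δ₁, δ₂, h1, h2, e1, e2, hδ⟩ := exists_defect Hn hc
  set D : Set Γ := {1, δ₁, δ₂, δ₁ * δ₂} with hD
  have hcomm : δ₁ * δ₂ = δ₂ * δ₁ := (Subgroup.mem_center_iff.1 (hc h1) δ₂).symm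
  let N : Subgroup Γ :=
    { carrier := D
      one_mem' := by simp [hD]
      mul_mem' := by
        have f1 : ∀ a, δ₁ * (δ₁ * a) = a := fun a => by rw [← mul_assoc, e1, one_mul]
        have f2 : ∀ a, δ₂ * (δ₂ * a) = a := fun a => by rw [← mul_assoc, e2, one_mul]
        have f21 : ∀ a, δ₂ * (δ₁ * a) = δ₁ * (δ₂ * a) := fun a => by
          rw [← mul_assoc, ← hcomm, mul_assoc]
        rintro a b (rfl | rfl | rfl | rfl) (rfl | rfl | rfl | rfl) <;>
          simp [hD, mul_assoc, f1, f2, f21, ← hcomm, e1, e2]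
      inv_mem' := by
        rintro a (rfl | rfl | rfl | rfl)
        · simp [hD]
        · rw [inv_eq_of_mul_eq_one_right e1]; simp [hD]
        · rw [inv_eq_of_mul_eq_one_right e2]; simp [hD]
        · rw [mul_inv_rev, inv_eq_of_mul_eq_one_right e1, inv_eq_of_mul_eq_one_right e2, ← hcomm]
          simp [hD] }
  have hNσ : N ≤ σ.ker := by
    rintro a (rfl | rfl | rfl | rfl)
    exacts [map_one σ, h1, h2, by rw [MonoidHom.mem_ker, map_mul, h1, h2, mul_one]]
  have hle : σ.ker ≤ N := by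
    refine ker_le_of_defects Hn hc hΓ (three v0) (exists_common v0)
      (CoverLocal.closure_stab Hl (exists_common v0)) N hNσ ?_
    intro γ ζ ζ' p1 p2 p1' ha hna
    have hv : σ (1 : Γ) • v0 = v0 := by rw [map_one, one_smul]
    have a1 := CoverGraph.Edge.adj' Hn p1
    have a1' := CoverGraph.Edge.adj' Hn p1'
    rw [hv] at a1 a1'
    obtain ⟨h, hh, hsh⟩ := hδ _ _ _ a1 (CoverGraph.Edge.adj' Hn p2) a1' ha hna
    exact ⟨h, hh, OmegaThree.ends_edge Hn (hsh.2 γ rfl ⟨ζ, rfl, p1, p2⟩) p1'⟩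
  refine (Subgroup.card_le_of_le hle).trans ?_
  have hD4 : D.ncard ≤ 4 := by
    refine (Set.ncard_insert_le _ _).trans (Nat.add_le_add_right ((Set.ncard_insert_le _ _).trans
      (Nat.add_le_add_right ((Set.ncard_insert_le _ _).trans (by rw [Set.ncard_singleton])) 1)) 1)
  exact hD4

end CfsgLib.USixMult
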