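/-!
The diagonal automorphism of `PSU₆(2)` on the eight transvections, and a balanced word telling the
two double covers apart.
-/

namespace CfsgLib.USixMult

/-- the preimages of the transvections under the diagonal automorphism -/
def diagWord : List (List Nat) := [
  [0],
  [7, 5, 6, 3, 7, 4, 3, 2, 1, 0, 1, 2, 3, 4, 7, 3, 6, 5, 7],
  [2],
  [3],
  [4],
  [6],
  [6, 5, 6],
  [7, 6, 3, 7, 1, 5, 4, 3, 2, 1, 0, 1, 2, 3, 4, 5, 1, 7, 3, 6, 7]]

/-- the word -/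
def distWord : List Nat :=
  [3, 2, 5, 4, 11, 12, 0, 6, 7, 3, 4, 13, 10, 11, 15, 14, 8, 12, 3, 2, 5, 4, 11, 12, 0, 6, 7, 3, 4,
13, 10, 11, 15, 14, 8, 12, 3, 2, 5, 4, 11, 12, 0, 6, 7, 3, 4, 13, 10, 11, 15, 14, 8, 12]

end CfsgLib.USixMult
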