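import Cfsg.Agent.Lib.Fi22USix.Main
import Cfsg.Agent.Lib.USixMult.DiagData
import Cfsg.Agent.Lib.Schur.StemTriple

/-!
The diagonal automorphism of `PSU₆(2)` moves the double cover inside Fi22 to another one: a balanced
word is trivial in the first and not in the second.
-/

set_option autoImplicit false
set_option Elab.async false
set_option maxRecDepth 100000
set_option linter.style.haveILetI false

namespace CfsgLib.USixMult

open Matrix CfsgLib.Fi22USix CfsgLib.CosetEnum CfsgLib.Schur.MonoCover CfsgLib.Fi22Pres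
open CfsgLib.HePres (K4)

/-- the diagonal entries -/
def dd (i : Fin 6) : K4 := if i = 0 then Fi22USix.el 2 else 1

/-- their inverses -/
def di (i : Fin 6) : K4 := if i = 0 then Fi22USix.el 3 else 1

theorem dd_di : ∀ i : Fin 6, dd i * di i = 1 ∧ di i * dd i = 1 ∧ dd i * (dd i * dd i) = 1 ∧
    di i * (di i * di i) = 1 := by decide +kernel

/-- conjugation by a unitary diagonal matrix -/
def conjD (a b : Fin 6 → K4) (h : ∀ i, a i * b i = 1 ∧ b i * a i = 1 ∧ a i * (a i * a i) = 1 ∧
    b i * (b i * b i) = 1) (g : SU62) : SU62 :=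
  ⟨⟨diagonal a * (g.1 : Matrix (Fin 6) (Fin 6) K4) * diagonal b, by
    rw [det_mul, det_mul, g.1.2, mul_one, ← det_mul, diagonal_mul_diagonal,
      show (fun i => a i * b i) = fun _ => (1 : K4) from funext fun i => (h i).1, diagonal_one, det_one]⟩,
    fun u v => by
      have hd : ∀ (c : Fin 6 → K4), (∀ i, c i * (c i * c i) = 1) → ∀ x y : Fin 6 → K4,
          Cfsg.hermForm 6 K4 2 (diagonal c *ᵥ x) (diagonal c *ᵥ y) = Cfsg.hermForm 6 K4 2 x y := by
        intro c hc x y
        refine Finset.sum_congr rfl fun i _ => ?_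
        rw [mulVec_diagonal, mulVec_diagonal]
        linear_combination (x i * y i ^ 2) * hc i
      show Cfsg.hermForm 6 K4 2 ((diagonal a * g.1.1 * diagonal b) *ᵥ u)
        ((diagonal a * g.1.1 * diagonal b) *ᵥ v) = _
      rw [← mulVec_mulVec, ← mulVec_mulVec, ← mulVec_mulVec, ← mulVec_mulVec,
        hd a (fun i => (h i).2.2.1)]
      exact (g.2 _ _).trans (hd b (fun i => (h i).2.2.2) u v)⟩

theorem conjD_coe {a b : Fin 6 → K4} (h) (g : SU62) :
    ((conjD a b h g).1 : Matrix (Fin 6) (Fin 6) K4) = diagonal a * g.1.1 * diagonal b := rfl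

theorem di_dd : ∀ i : Fin 6, di i * dd i = 1 ∧ dd i * di i = 1 ∧ di i * (di i * di i) = 1 ∧
    dd i * (dd i * dd i) = 1 := fun i => ⟨(dd_di i).2.1, (dd_di i).1, (dd_di i).2.2.2, (dd_di i).2.2.1⟩

/-- the automorphism of `SU₆(2)` -/
def diagSU : SU62 ≃* SU62 where
  toFun := conjD dd di dd_di
  invFun := conjD di dd di_dd
  left_inv g := Subtype.ext (Subtype.ext (by
    rw [conjD_coe, conjD_coe]
    simp only [Matrix.mul_assoc, diagonal_mul_diagonal]
    simp only [← Matrix.mul_assoc, diagonal_mul_diagonal]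
    simp [(dd_di _).2.1, diagonal_one]))
  right_inv g := Subtype.ext (Subtype.ext (by
    rw [conjD_coe, conjD_coe]
    simp only [Matrix.mul_assoc, diagonal_mul_diagonal]
    simp only [← Matrix.mul_assoc, diagonal_mul_diagonal]
    simp [(dd_di _).1, diagonal_one]))
  map_mul' g h := Subtype.ext (Subtype.ext (by
    show diagonal dd * (g.1.1 * h.1.1) * diagonal di =
      diagonal dd * g.1.1 * diagonal di * (diagonal dd * h.1.1 * diagonal di)
    simp only [Matrix.mul_assoc]
    rw [← Matrix.mul_assoc (diagonal di) (diagonal dd), diagonal_mul_diagonal]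
    simp [(dd_di _).2.1, diagonal_one]))

theorem diag_center : (Subgroup.center SU62).map diagSU.toMonoidHom = Subgroup.center SU62 := by
  ext z
  constructor
  · rintro ⟨w, hw, rfl⟩
    refine Subgroup.mem_center_iff.2 fun g => ?_
    obtain ⟨g, rfl⟩ := diagSU.surjective g
    show diagSU g * diagSU w = diagSU w * diagSU g
    rw [← map_mul, ← map_mul, Subgroup.mem_center_iff.1 hw g]
  · intro hz
    refine ⟨diagSU.symm z, Subgroup.mem_center_iff.2 fun g => diagSU.injective ?_, diagSU.apply_symm_apply z⟩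
    rw [map_mul, map_mul, diagSU.apply_symm_apply, Subgroup.mem_center_iff.1 hz]

/-- the automorphism of `PSU₆(2)` -/
noncomputable def diagPSU : Cfsg.PSU 6 K4 2 ≃* Cfsg.PSU 6 K4 2 :=
  QuotientGroup.congr _ _ diagSU diag_center

/-- one transvection of a vector -/
def step (k : ℕ) (x : V6) : V6 := x + hval x (tvec k) • tvec k

/-- a word of transvections of a vector -/
def wmv (w : List ℕ) (x : V6) : V6 := w.foldr step x

/-- the transvections -/
noncomputable def tl (k : ℕ) : SU62 := if h : k < 8 then tv ⟨k, h⟩ else 1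

theorem yl_eq (k : ℕ) : yl k = QuotientGroup.mk (tl k) := by
  unfold yl tl
  split_ifs <;> rfl

theorem tl_apply : ∀ w : List ℕ, (∀ k ∈ w, k < 8) → ∀ x : V6,
    ((prodW tl w).1 : Matrix (Fin 6) (Fin 6) K4) *ᵥ x = wmv w x := by
  intro w
  induction w with
  | nil =>
    intro _ x
    rw [prodW_nil]
    exact one_mulVec x
  | cons k w ih =>
    intro hw x
    rw [List.forall_mem_cons] at hw
    rw [prodW_cons]
    show ((tl k).1.1 * (prodW tl w).1.1) *ᵥ x = _
    rw [← mulVec_mulVec, ih hw.2, tl, dif_pos hw.1, tv_apply]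
    rfl

theorem diagShape : ∀ j : Fin 8, ∀ k ∈ diagWord.getD j [], k < 8 := by decide +kernel

theorem diagChk : ∀ j : Fin 8, ∀ i : Fin 6,
    (fun l => dd l * wmv (diagWord.getD j []) (fun m => di m * (Pi.single i 1 : V6) m) l) =
      step j (Pi.single i 1) := by decide +kernel

/-- The images of the words under the automorphism are the transvections. -/
theorem diag_word (j : Fin 8) : diagPSU (prodW yl (diagWord.getD j [])) = yl j := by
  have e : diagSU (prodW tl (diagWord.getD j [])) = tl j := Subtype.ext (Subtype.ext (by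
    refine Matrix.ext_of_mulVec_single fun i => ?_
    show (diagonal dd * _ * diagonal di) *ᵥ _ = _
    rw [← mulVec_mulVec, ← mulVec_mulVec, tl_apply _ (diagShape j), tl, dif_pos j.2, tv_apply]
    refine Eq.trans ?_ (diagChk j i)
    rw [show diagonal di *ᵥ (Pi.single i 1 : V6) = fun m => di m * (Pi.single i 1 : V6) m from
      funext fun m => mulVec_diagonal _ _ _]
    exact funext fun l => mulVec_diagonal _ _ _))
  have h : prodW yl (diagWord.getD j []) =
      QuotientGroup.mk' (Subgroup.center SU62) (prodW tl (diagWord.getD j [])) := by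
    rw [map_prodW]
    simp only [prodW, funext yl_eq]
    rfl
  rw [h, yl_eq, ← e]
  rfl

/-- the lifts to the first cover -/
noncomputable def e2 (i : ℕ) : subA := if i < 8 then tA i else (tA (i - 8))⁻¹

/-- the lifts to the second cover -/
noncomputable def e3 (i : ℕ) : subA :=
  if i < 8 then prodW tA (diagWord.getD i []) else (prodW tA (diagWord.getD (i - 8) []))⁻¹

/-- the letters of the first lifts -/
def fl2 (i : ℕ) : List ℕ := if i < 8 then gword.getD i [] else (gword.getD (i - 8) []).reverse

/-- the letters of the second lifts -/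
def fl3 (i : ℕ) : List ℕ :=
  if i < 8 then (diagWord.getD i []).flatMap (fun k => gword.getD k [])
  else ((diagWord.getD (i - 8) []).flatMap fun k => gword.getD k []).reverse

theorem distShape : (distWord.all fun i => decide (i < 16)) = true ∧
    (∀ j < 8, distWord.count j = distWord.count (8 + j)) ∧
    (distWord.flatMap fl2).all (fun g => decide (g < certA.K)) = true ∧
    (distWord.flatMap fl3).all (fun g => decide (g < certA.K)) = true := by decide +kernel

theorem distSep : (List.range 3510).any (fun x =>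
    Nat.beq (certA.run x (certA.revInv (distWord.flatMap fl2))) x &&
      !Nat.beq (certA.run x (certA.revInv (distWord.flatMap fl3))) x) = true := by decide +kernel

theorem distFix : (List.range 693).all (fun i =>
    Nat.beq (pW (distWord.map fun k => k % 8) i) i &&
      (List.range 8).all fun k => Nat.beq (pK k (pK k i)) i) = true := by decide +kernel

theorem prodW_reverse (l : List ℕ) : prodW gen l.reverse = (prodW gen l)⁻¹ := by
  induction l with
  | nil => simp
  | cons g l ih =>
    rw [List.reverse_cons, prodW_append, prodW_cons, prodW_cons, prodW_nil, mul_one, ih, _root_.mul_inv_rev,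
      inv_eq_of_mul_eq_one_right (gen_sq g)]

theorem coe_prod (e : ℕ → subA) (fl : ℕ → List ℕ) : ∀ v : List ℕ,
    (∀ i ∈ v, (e i : Cfsg.Spor.Fi22) = prodW gen (fl i)) →
      (((v.map e).prod : subA) : Cfsg.Spor.Fi22) = prodW gen (v.flatMap fl) := by
  intro v
  induction v with
  | nil => intro _; simp
  | cons i v ih =>
    intro h
    rw [List.forall_mem_cons] at h
    rw [List.map_cons, List.prod_cons, Subgroup.coe_mul, ih h.2, List.flatMap_cons, prodW_append, h.1]

/-- Two projections onto `PSU₆(2)` of the double cover and a balanced word telling them apart. -/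
theorem exists_pair : ∃ σ₂ σ₃ : subA →* Cfsg.PSU 6 K4 2,
    Cfsg.IsStemExtension σ₂ ∧ Cfsg.IsStemExtension σ₃ ∧ Nat.card σ₂.ker = 2 ∧ Nat.card σ₃.ker = 2 ∧
    (∀ i ∈ distWord, i < 2 * 8 ∧
      σ₂ (e2 (if i < 8 then i else i - 8)) = σ₃ (e3 (if i < 8 then i else i - 8)) ∧
      (8 ≤ i → e2 i = (e2 (i - 8))⁻¹ ∧ e3 i = (e3 (i - 8))⁻¹)) ∧
    (∀ j < 8, distWord.count j = distWord.count (8 + j)) ∧
    (distWord.map e2).prod = 1 ∧ (distWord.map e3).prod ≠ 1 := by
  classical
  obtain ⟨π, hπs, hcen, hk2, hπt⟩ := exists_proj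
  obtain ⟨φ, hφ, -, hy⟩ := exists_model
  haveI : Finite Cfsg.Spor.Fi22 := finite_and_card.1
  haveI : IsSimpleGroup (Cfsg.PSU 6 K4 2) := psu_simple
  have hG : commutator (Cfsg.PSU 6 K4 2) = ⊤ :=
    (Subgroup.Normal.eq_bot_or_eq_top (inferInstance : (commutator _).Normal)).resolve_left fun h => by
      have hc : Subgroup.center (Cfsg.PSU 6 K4 2) = ⊤ := (commutator_eq_bot_iff_center_eq_top (G := Cfsg.PSU 6 K4 2)).1 h
      exact bot_ne_top (psu_center.symm.trans hc)
  have hcomm : π.ker ≤ commutator subA := by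
    by_contra hle
    obtain ⟨a, ha, huniq⟩ := (Nat.card_eq_two_iff' (1 : π.ker)).1 hk2
    have hdis : Disjoint (commutator subA) π.ker := Subgroup.disjoint_def.2 fun {x} hx hxk => by
      by_contra hx1
      refine hle fun y hy => ?_
      by_cases hy1 : y = 1
      · subst hy1; exact one_mem _
      · have ex := huniq ⟨x, hxk⟩ fun h => hx1 (congrArg Subtype.val h)
        have ey := huniq ⟨y, hy⟩ fun h => hy1 (congrArg Subtype.val h)
        rwa [← show x = y from congrArg Subtype.val (ex.trans ey.symm)]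
    refine Fi22USix.subA_cover.2.2 (commutator subA) ?_
    rw [hcen]
    refine Subgroup.isComplement'_of_disjoint_and_mul_eq_univ hdis.symm (Set.eq_univ_of_forall fun x => ?_)
    obtain ⟨d, hd, e⟩ := Schur.Triple.exists_mem_commutator π hπs (h := π x) (hG ▸ Subgroup.mem_top _)
    exact Set.mem_mul.2 ⟨x * d⁻¹, by
      rw [SetLike.mem_coe, MonoidHom.mem_ker, map_mul, map_inv, e, mul_inv_cancel], d, hd,
      inv_mul_cancel_right x d⟩
  have hstem : Cfsg.IsStemExtension π := ⟨hπs, hcen.ge, hcomm⟩
  obtain ⟨hstem', hker'⟩ := Schur.Triple.isStem_comp diagPSU hstem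
  -- the second lifts
  have h3 : ∀ j : Fin 8, diagPSU (π (e3 j)) = yl j := fun j => by
    rw [e3, if_pos j.2, map_prodW]
    have e : prodW (fun k => π (tA k)) (diagWord.getD j []) = prodW yl (diagWord.getD j []) := by
      simp only [prodW]
      exact congrArg List.prod (List.map_congr_left fun k hk => hπt k (diagShape j k hk))
    exact (congrArg diagPSU e).trans (diag_word j)
  have h2 : ∀ j : Fin 8, π (e2 j) = yl j := fun j => by rw [e2, if_pos j.2, hπt j j.2]
  have hlt : ∀ i ∈ distWord, i < 2 * 8 ∧ (if i < 8 then i else i - 8) < 8 := fun i hi => by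
    have := List.all_eq_true.1 distShape.1 i hi
    simp only [decide_eq_true_eq] at this
    refine ⟨this, ?_⟩
    split_ifs <;> omega
  have hinv : ∀ i, 8 ≤ i → i < 16 → e2 i = (e2 (i - 8))⁻¹ ∧ e3 i = (e3 (i - 8))⁻¹ := fun i h h' => by
    simp only [e2, e3, if_neg (show ¬ i < 8 by omega), if_pos (show i - 8 < 8 by omega), and_self]
  have hyinv : ∀ k < 8, (yl k)⁻¹ = yl k := fun k hk => by
    refine inv_eq_of_mul_eq_one_right (hφ (Equiv.ext fun i => Fin.ext ?_))
    rw [map_mul, map_one, Equiv.Perm.mul_apply, hy k hk, hy k hk]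
    have h := List.all_eq_true.1 distFix i (List.mem_range.2 i.2)
    rw [Bool.and_eq_true] at h
    have h' := List.all_eq_true.1 h.2 k (List.mem_range.2 hk)
    rw [Nat.beq_eq] at h'
    exact h'
  have hfold : ∀ (τ : subA →* Cfsg.PSU 6 K4 2) (e : ℕ → subA) (w : List ℕ),
      (∀ k ∈ w, τ (e k) = yl (k % 8)) → ∀ i : Fin 693,
      ((φ (τ (w.map e).prod) i : Fin 693) : ℕ) = pW (w.map fun k => k % 8) i := by
    intro τ e w
    induction w with
    | nil => intro _ i; simp [pW]
    | cons k w ih =>
      intro hw i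
      rw [List.forall_mem_cons] at hw
      rw [List.map_cons, List.prod_cons, map_mul, map_mul, Equiv.Perm.mul_apply, hw.1,
        hy _ (Nat.mod_lt _ (by norm_num)), ih hw.2, pW, pW, List.map_cons, List.foldr_cons]
  have himg : ∀ (τ : subA →* Cfsg.PSU 6 K4 2) (e : ℕ → subA), (∀ j : Fin 8, τ (e j) = yl j) →
      (∀ i, 8 ≤ i → i < 16 → e i = (e (i - 8))⁻¹) → τ (distWord.map e).prod = 1 := by
    intro τ e he hi
    refine hφ (Equiv.ext fun i => Fin.ext ?_)
    rw [map_one]
    have h := List.all_eq_true.1 distFix i (List.mem_range.2 i.2)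
    rw [Bool.and_eq_true, Nat.beq_eq] at h
    refine (hfold τ e distWord (fun k hk => ?_) i).trans h.1
    have hk' := (hlt k hk).1
    by_cases h8 : k < 8
    · rw [Nat.mod_eq_of_lt h8]; exact he ⟨k, h8⟩
    · rw [hi k (not_lt.1 h8) hk', map_inv, he ⟨k - 8, by omega⟩,
        hyinv _ (show k - 8 < 8 by omega)]
      congr 1
      omega
  have hz2 : π (distWord.map e2).prod = 1 := himg π e2 h2 fun i h h' => (hinv i h h').1
  have hz3 : π (distWord.map e3).prod = 1 := diagPSU.injective (by
    rw [map_one]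
    exact himg (diagPSU.toMonoidHom.comp π) e3 h3 fun i h h' => (hinv i h h').2)
  obtain ⟨x, hx, hsep⟩ := List.any_eq_true.1 distSep
  simp only [Bool.and_eq_true, Bool.not_eq_true', Nat.beq_eq] at hsep
  have hmove : certA.run x (certA.revInv (distWord.flatMap fl3)) ≠ x := fun h => by
    have := hsep.2
    rw [h] at this
    simp at this
  have hrun : ∀ (e : ℕ → subA) (fl : ℕ → List ℕ), (∀ i ∈ distWord, (e i : Cfsg.Spor.Fi22) = prodW gen (fl i)) →
      (distWord.flatMap fl).all (fun g => decide (g < certA.K)) = true →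
      (rho ((distWord.map e).prod : subA) (⟨x, List.mem_range.1 hx⟩ : Fin certA.N) : ℕ) =
        certA.run x (certA.revInv (distWord.flatMap fl)) := by
    intro e fl he hall
    rw [coe_prod e fl distWord he]
    exact setupA.rho_prodW (fun g hg => by simpa using List.all_eq_true.1 hall g hg) _
  have hc2 : ∀ i ∈ distWord, (e2 i : Cfsg.Spor.Fi22) = prodW gen (fl2 i) := fun i hi => by
    have h := (hlt i hi).1
    by_cases h8 : i < 8
    · rw [e2, fl2, if_pos h8, if_pos h8, tA_coe h8]
    · rw [e2, fl2, if_neg h8, if_neg h8, Subgroup.coe_inv, tA_coe (show i - 8 < 8 by omega),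
        prodW_reverse]
  have hc3 : ∀ i ∈ distWord, (e3 i : Cfsg.Spor.Fi22) = prodW gen (fl3 i) := fun i hi => by
    have h := (hlt i hi).1
    by_cases h8 : i < 8
    · rw [e3, fl3, if_pos h8, if_pos h8, flatA _ (diagShape ⟨i, h8⟩)]
    · rw [e3, fl3, if_neg h8, if_neg h8, Subgroup.coe_inv,
        flatA _ (diagShape ⟨i - 8, by omega⟩), prodW_reverse]
  have r2 := hrun e2 fl2 hc2 distShape.2.2.1
  have r3 := hrun e3 fl3 hc3 distShape.2.2.2
  have hne3 : (distWord.map e3).prod ≠ 1 := fun h => by
    rw [h, Subgroup.coe_one, map_one] at r3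
    exact absurd r3.symm hmove
  refine ⟨π, diagPSU.toMonoidHom.comp π, hstem, hstem', hk2, by rw [hker', hk2],
    fun i hi => ⟨(hlt i hi).1, ?_, fun h => hinv i h (hlt i hi).1⟩, distShape.2.1, ?_, hne3⟩
  · exact (h2 ⟨_, (hlt i hi).2⟩).trans (h3 ⟨_, (hlt i hi).2⟩).symm
  · by_contra hne
    obtain ⟨a, -, huniq⟩ := (Nat.card_eq_two_iff' (1 : π.ker)).1 hk2
    have ea := huniq ⟨_, hz2⟩ fun h => hne (congrArg Subtype.val h)
    have eb := huniq ⟨_, hz3⟩ fun h => hne3 (congrArg Subtype.val h)
    have e := congrArg Subtype.val (ea.trans eb.symm)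
    rw [show (distWord.map e2).prod = (distWord.map e3).prod from e] at r2
    rw [r2] at r3
    exact absurd (r3.symm.trans hsep.1) hmove

end CfsgLib.USixMult
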