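import Cfsg.Agent.Lib.Schur.SzEight
import Cfsg.Agent.Lib.Schur.CoverOfBound
import Cfsg.Agent.Lib.GTwoTwo.FieldCongr
import Cfsg.Agent.Lib.USixMult.Bound
import Cfsg.Agent.Lib.USixMult.Diag

/-!
The multiplier of `PSU₆(2)` is `3 × 2 × 2`.

The special unitary group gives the factor three, the two double covers the rest, and a perfect
central extension has order at most four times that of the special unitary group.
-/

set_option autoImplicit false
set_option linter.style.haveILetI false

namespace CfsgLib.USixMult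

open Cfsg CfsgLib.Schur
open CfsgLib.HePres (K4)

theorem su6_facts : commutator (SUn 6) = ⊤ ∧ Nat.card (Subgroup.center (SUn 6)) = 3 ∧
    commutator (Cfsg.PSU 6 K4 2) = ⊤ := by
  have h := Classical.Herm.commutator_eq_top KC 2 (n := 6) (by norm_num) (by norm_num)
  refine ⟨h, by rw [Classical.Herm.card_center KC (by norm_num)]; rfl, ?_⟩
  rw [commutator_def, ← Subgroup.map_top_of_surjective (QuotientGroup.mk' (Subgroup.center (SUn 6)))
    (QuotientGroup.mk'_surjective _), ← Subgroup.map_commutator, ← commutator_def, h]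

/-- A perfect central extension has order at most twelve times that of the group. -/
theorem card_le {Δ : Type} [Group Δ] [Finite Δ] (τ : Δ →* Cfsg.PSU 6 K4 2)
    (hs : Function.Surjective τ) (hc : τ.ker ≤ Subgroup.center Δ) (hΔ : commutator Δ = ⊤) :
    Nat.card Δ ≤ 12 * Nat.card (Cfsg.PSU 6 K4 2) := by
  obtain ⟨hSU, h3, hG⟩ := su6_facts
  obtain ⟨D, _, _, p, q, hp, hq, hD, -, -, hpc⟩ := CoverOfBound.exists_common hG
    (QuotientGroup.mk' (Subgroup.center (SUn 6))) τ (QuotientGroup.mk'_surjective _)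
    (by rw [QuotientGroup.ker_mk']) hSU hs hc hΔ
  have h4 := card_ker_le p hp hpc hD
  have e := Subgroup.card_eq_card_quotient_mul_card_subgroup p.ker
  rw [Nat.card_congr (QuotientGroup.quotientKerEquivOfSurjective p hp).toEquiv,
    Subgroup.card_eq_card_quotient_mul_card_subgroup (Subgroup.center (SUn 6)), h3] at e
  calc Nat.card Δ ≤ Nat.card D := Nat.card_le_card_of_surjective q hq
    _ ≤ Nat.card (Cfsg.PSU 6 K4 2) * 3 * 4 := by
      rw [e]; exact Nat.mul_le_mul_left _ h4
    _ = 12 * Nat.card (Cfsg.PSU 6 K4 2) := by ring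

/-- The multiplier over the field with four elements. -/
theorem multiplier_K4 : HasSchurMultiplier (Cfsg.PSU 6 K4 2)
    (Multiplicative (ZMod 3 × ZMod 2 × ZMod 2)) := by
  obtain ⟨hSU, h3, hG⟩ := su6_facts
  haveI : Finite Cfsg.Spor.Fi22 := Fi22Pres.finite_and_card.1
  obtain ⟨σ₂, σ₃, h₂, h₃, hk₂, hk₃, hv, hbal, hv2, hv3⟩ := exists_pair
  have h₁ : IsStemExtension (QuotientGroup.mk' (Subgroup.center (SUn 6))) :=
    ⟨QuotientGroup.mk'_surjective _, by rw [QuotientGroup.ker_mk'], by rw [hSU]; exact le_top⟩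
  have hk₁ : Nat.card (QuotientGroup.mk' (Subgroup.center (SUn 6))).ker = 3 := by
    rw [QuotientGroup.ker_mk', h3]
  obtain ⟨Γ, _, _, σ, hσ, ⟨k⟩⟩ := Triple.exists_stem_triple h₁ h₂ h₃ (p := 2) Nat.prime_two
    (by rw [hk₁]; norm_num) hk₂ hk₃ 8 distWord e2 e3 hv hbal hv2 hv3
  haveI : Fact (Nat.Prime 3) := ⟨Nat.prime_three⟩
  haveI : Fact (Nat.Prime 2) := ⟨Nat.prime_two⟩
  haveI : IsCyclic (QuotientGroup.mk' (Subgroup.center (SUn 6))).ker := isCyclic_of_prime_card hk₁
  haveI : IsCyclic σ₂.ker := isCyclic_of_prime_card hk₂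
  haveI : IsCyclic σ₃.ker := isCyclic_of_prime_card hk₃
  refine CoverOfBound.hasSchurMultiplier hG hσ
    (k.trans ((MulEquiv.prodCongr (mulEquivOfCyclicCardEq (G' := Multiplicative (ZMod 3)) ?_)
      ((MulEquiv.prodCongr (mulEquivOfCyclicCardEq (G' := Multiplicative (ZMod 2)) ?_)
        (mulEquivOfCyclicCardEq (G' := Multiplicative (ZMod 2)) ?_)).trans
          (MulEquiv.prodMultiplicative _ _).symm)).trans (MulEquiv.prodMultiplicative _ _).symm))
    fun {Δ} _ _ τ hs hc hΔ => ?_
  · rw [hk₁, Nat.card_congr Multiplicative.toAdd, Nat.card_zmod]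
  · rw [hk₂, Nat.card_congr Multiplicative.toAdd, Nat.card_zmod]
  · rw [hk₃, Nat.card_congr Multiplicative.toAdd, Nat.card_zmod]
  · have e := Subgroup.card_eq_card_quotient_mul_card_subgroup σ.ker
    rw [Nat.card_congr (QuotientGroup.quotientKerEquivOfSurjective σ hσ.1).toEquiv,
      Nat.card_congr k.toEquiv, Nat.card_prod, Nat.card_prod, hk₁, hk₂, hk₃] at e
    rw [e, mul_comm]
    exact card_le τ hs hc hΔ

universe u

/-- The multiplier of `PSU₆(2)`. -/
theorem multiplier {F : Type u} [Field F] [Fintype F] (hF : Fintype.card F = 4) :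
    HasSchurMultiplier (Cfsg.PSU 6 F 2) (Multiplicative (ZMod 3 × ZMod 2 × ZMod 2)) := by
  obtain ⟨e⟩ := GTwoTwo.psu_equiv (FiniteField.ringEquivOfCardEq (K := K4) (K' := F) (by rw [K4.card_eq, hF])) 6 2
  exact SzEight.hasSchurMultiplier_transport e multiplier_K4

end CfsgLib.USixMult
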