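import Cfsg.Agent.Lib.USixMult.TabsP
import Cfsg.Agent.Lib.Schur.MonoCover

/-!
A stabiliser chain (P) (generated).
-/

set_option autoImplicit false
set_option maxRecDepth 100000

namespace CfsgLib.USixMult

/-- transversal definitions -/
def elDefP : List (ℕ × ℕ) :=
  [(0, 0), (1, 0), (0, 25), (1, 25), (0, 26), (0, 27), (1, 27), (0, 28), (1, 28), (1, 29),
   (0, 30), (1, 30), (0, 31), (1, 31), (0, 32), (1, 32), (0, 33), (0, 34), (1, 34), (1, 35),
   (0, 36), (1, 36), (0, 37), (1, 37), (0, 38), (0, 39), (1, 39), (0, 40), (1, 40), (0, 41),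
   (1, 41), (1, 42), (0, 43), (1, 43), (0, 44), (0, 45), (1, 45), (0, 46), (1, 46), (1, 47),
   (0, 48), (1, 48), (0, 49), (1, 49), (0, 50), (0, 51), (1, 51), (0, 52), (1, 52), (0, 53),
   (1, 53), (1, 54), (0, 55), (1, 55), (0, 56), (0, 57), (1, 57), (0, 58), (1, 58), (0, 59),
   (1, 60), (0, 61), (1, 61), (0, 62), (1, 62), (0, 63), (1, 63), (1, 64), (0, 65), (1, 65),
   (0, 66), (1, 66), (1, 67), (0, 68), (1, 68), (0, 70), (1, 70), (1, 71), (0, 72), (1, 73),
   (0, 74), (1, 74), (0, 75), (1, 75), (0, 76), (1, 76), (0, 77), (1, 77), (0, 78), (1, 78),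
   (1, 79), (0, 82), (1, 82), (0, 84), (0, 85), (1, 85), (0, 87), (1, 88), (0, 89), (1, 90),
   (1, 92), (0, 93), (1, 93), (0, 96), (0, 97), (1, 97), (0, 98), (1, 98), (0, 99), (1, 99),
   (0, 100), (0, 101), (1, 101), (1, 102), (0, 104), (1, 104), (1, 105), (1, 106), (1, 107), (0, 108),
   (0, 109), (1, 109), (1, 110), (0, 111), (1, 111), (1, 112), (0, 114), (1, 114), (1, 115), (0, 117),
   (1, 118), (0, 119), (1, 121), (0, 123), (1, 123), (0, 125), (0, 126), (0, 127), (1, 129), (1, 131),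
   (0, 132), (1, 133), (0, 135), (0, 136), (1, 136), (0, 140), (0, 143), (1, 143), (1, 144), (0, 146),
   (1, 146), (1, 147), (0, 149), (1, 149), (0, 150), (0, 151), (1, 151), (0, 155), (1, 160), (1, 174),
   (0, 177), (1, 177), (0, 180), (0, 181), (2, 0), (3, 0), (2, 189), (3, 189), (2, 190), (3, 190),
   (3, 191), (3, 192), (3, 193), (2, 194), (3, 194), (3, 195), (2, 196), (3, 196), (2, 197), (3, 197),
   (2, 198), (3, 198), (2, 199), (2, 200), (3, 200), (2, 201), (2, 202), (2, 203), (2, 204), (2, 207),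
   (2, 208), (2, 209), (2, 211), (2, 213), (3, 214), (2, 216), (3, 217), (3, 218), (3, 220), (4, 0),
   (4, 224), (6, 0), (7, 0), (6, 226), (7, 226), (6, 227), (6, 228), (8, 228), (6, 229), (8, 229),
   (6, 230), (7, 230), (6, 231), (7, 231), (6, 232), (7, 232), (7, 233), (8, 233), (6, 234), (7, 234),
   (8, 235), (6, 236), (6, 238), (7, 239), (8, 239), (6, 240), (7, 240), (6, 242), (7, 242), (6, 243),
   (6, 245), (6, 248), (9, 0), (10, 0), (9, 257), (9, 258), (9, 259), (10, 259), (9, 262), (11, 0),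
   (11, 264)]

/-- orbit of level 0 -/
def ptsP0 : List (ℕ × ℕ) :=
  [(0, 0), (16, 25), (66, 26), (3, 27), (162, 28), (24, 29), (74, 30), (27, 31), (115, 32), (81, 33),
   (121, 34), (70, 35), (31, 36), (52, 37), (90, 38), (1, 39), (92, 40), (75, 41), (69, 42), (98, 43),
   (55, 44), (163, 45), (153, 46), (57, 47), (32, 48), (102, 49), (37, 50), (135, 51), (94, 52), (18, 53),
   (50, 54), (60, 55), (10, 56), (79, 57), (85, 58), (120, 59), (82, 60), (127, 61), (119, 62), (114, 63),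
   (128, 64), (117, 65), (19, 66), (58, 67), (113, 68), (136, 69), (76, 70), (118, 71), (146, 72), (83, 73),
   (36, 74), (45, 75), (40, 76), (156, 77), (84, 78), (143, 79), (78, 80), (126, 81), (56, 82), (132, 83),
   (160, 84), (61, 85), (100, 86), (9, 87), (86, 88), (108, 89), (29, 90), (96, 91), (87, 92), (23, 93),
   (145, 94), (17, 95), (110, 96), (8, 97), (34, 98), (2, 99), (134, 100), (149, 101), (131, 102), (68, 103),
   (139, 104), (151, 105), (152, 106), (164, 107), (64, 108), (104, 109), (112, 110), (77, 111), (15, 112), (67, 113),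
   (41, 114), (138, 115), (89, 116), (159, 117), (51, 118), (20, 119), (49, 120), (105, 121), (62, 122), (21, 123),
   (26, 124), (43, 125), (28, 126), (14, 127), (6, 128), (130, 129), (47, 130), (73, 131), (46, 132), (4, 133),
   (141, 134), (133, 135), (11, 136), (33, 137), (48, 138), (80, 139), (42, 140), (97, 141), (161, 142), (148, 143),
   (13, 144), (30, 145), (59, 146), (137, 147), (101, 148), (12, 149), (88, 150), (142, 151), (155, 152), (144, 153),
   (106, 154), (124, 155), (38, 156), (122, 157), (5, 158), (154, 159), (72, 160), (103, 161), (157, 162), (129, 163),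
   (71, 164), (123, 165), (111, 166), (125, 167), (54, 168), (35, 169), (91, 170), (22, 171), (158, 172), (95, 173),
   (109, 174), (99, 175), (93, 176), (63, 177), (65, 178), (150, 179), (107, 180), (39, 181), (147, 182), (116, 183),
   (140, 184), (7, 185), (25, 186), (44, 187), (53, 188)]

/-- Schreier generators of level 0 -/
def schP0 : List (ℕ × ℕ × ℕ × List ℕ) :=
  [(0, 0, 0, []), (1, 0, 0, []), (0, 16, 0, []), (1, 16, 0, []),
   (0, 66, 0, []), (1, 66, 0, [192, 223, 247, 258, 264]), (0, 3, 0, []), (1, 3, 0, []),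
   (0, 162, 0, []), (1, 162, 0, []), (0, 24, 0, [224, 233, 261, 264]), (1, 24, 0, []),
   (0, 74, 0, []), (1, 74, 0, []), (0, 27, 0, []), (1, 27, 0, []),
   (0, 115, 0, []), (1, 115, 0, []), (0, 81, 0, []), (1, 81, 0, [237, 256]),
   (0, 121, 0, []), (1, 121, 0, []), (0, 70, 0, []), (1, 70, 0, []),
   (0, 31, 0, []), (1, 31, 0, []), (0, 52, 0, []), (1, 52, 0, []),
   (0, 90, 0, []), (1, 90, 0, [192, 223, 247, 256]), (0, 1, 0, []), (1, 1, 0, []),
   (0, 92, 0, []), (1, 92, 0, []), (0, 75, 0, []), (1, 75, 0, []),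
   (0, 69, 0, [188, 224, 244]), (1, 69, 0, []), (0, 98, 0, []), (1, 98, 0, []),
   (0, 55, 0, []), (1, 55, 0, [237, 256, 264]), (0, 163, 0, []), (1, 163, 0, []),
   (0, 153, 0, []), (1, 153, 0, []), (0, 57, 0, [223, 242, 257, 263]), (1, 57, 0, []),
   (0, 32, 0, []), (1, 32, 0, []), (0, 102, 0, []), (1, 102, 0, []),
   (0, 37, 0, []), (1, 37, 0, [212, 226, 261, 263]), (0, 135, 0, []), (1, 135, 0, []),
   (0, 94, 0, []), (1, 94, 0, []), (0, 18, 0, []), (1, 18, 0, []),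
   (0, 50, 0, [195, 224, 234, 260]), (1, 50, 0, []), (0, 60, 0, []), (1, 60, 0, []),
   (0, 10, 0, []), (1, 10, 0, [197, 235, 257, 264]), (0, 79, 0, []), (1, 79, 0, []),
   (0, 85, 0, []), (1, 85, 0, []), (0, 120, 0, []), (1, 120, 0, [210, 224, 249, 264]),
   (0, 82, 0, [205, 224, 229, 257, 263]), (1, 82, 0, []), (0, 127, 0, []), (1, 127, 0, []),
   (0, 119, 0, []), (1, 119, 0, []), (0, 114, 0, []), (1, 114, 0, []),
   (0, 128, 0, [194, 225, 264]), (1, 128, 0, []), (0, 117, 0, []), (1, 117, 0, []),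
   (0, 19, 0, []), (1, 19, 0, []), (0, 58, 0, [202, 223, 229, 257, 263]), (1, 58, 0, []),
   (0, 113, 0, []), (1, 113, 0, []), (0, 136, 0, []), (1, 136, 0, [220, 224, 261]),
   (0, 76, 0, []), (1, 76, 0, []), (0, 118, 0, [190, 240, 259, 264]), (1, 118, 0, []),
   (0, 146, 0, []), (1, 146, 0, [194, 249, 261, 263]), (0, 83, 0, [202, 224, 251, 259, 263]), (1, 83, 0, []),
   (0, 36, 0, []), (1, 36, 0, []), (0, 45, 0, []), (1, 45, 0, []),
   (0, 40, 0, []), (1, 40, 0, []), (0, 156, 0, []), (1, 156, 0, []),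
   (0, 84, 0, []), (1, 84, 0, []), (0, 143, 0, [188, 224, 248, 261, 263]), (1, 143, 0, []),
   (0, 78, 0, [224, 249, 259]), (1, 78, 0, [218, 223, 237, 261, 263]), (0, 126, 0, [218, 224, 241, 260, 264]), (1, 126, 0, [206, 229, 261]),
   (0, 56, 0, []), (1, 56, 0, []), (0, 132, 0, [212, 223, 225, 261, 264]), (1, 132, 0, []),
   (0, 160, 0, []), (1, 160, 0, [214, 224, 252]), (0, 61, 0, []), (1, 61, 0, []),
   (0, 100, 0, [210, 223, 250, 261]), (1, 100, 0, [211, 256]), (0, 9, 0, []), (1, 9, 0, [205, 224, 249, 258, 264]),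
   (0, 86, 0, [191, 253, 257, 263]), (1, 86, 0, []), (0, 108, 0, []), (1, 108, 0, [202, 223, 235, 256]),
   (0, 29, 0, [212, 242, 256, 264]), (1, 29, 0, []), (0, 96, 0, [214, 223, 249]), (1, 96, 0, []),
   (0, 87, 0, [208, 224, 240, 264]), (1, 87, 0, []), (0, 23, 0, []), (1, 23, 0, []),
   (0, 145, 0, [193, 238, 258]), (1, 145, 0, [222, 234, 258, 264]), (0, 17, 0, [205, 226, 263]), (1, 17, 0, [188, 254, 261]),
   (0, 110, 0, []), (1, 110, 0, [199, 229, 260, 263]), (0, 8, 0, []), (1, 8, 0, []),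
   (0, 34, 0, []), (1, 34, 0, []), (0, 2, 0, []), (1, 2, 0, []),
   (0, 134, 0, []), (1, 134, 0, [194, 224, 248, 262, 263]), (0, 149, 0, []), (1, 149, 0, []),
   (0, 131, 0, [214, 223, 229, 262]), (1, 131, 0, []), (0, 68, 0, [203, 250, 264]), (1, 68, 0, [209, 224, 254, 261, 263]),
   (0, 139, 0, []), (1, 139, 0, []), (0, 151, 0, [205, 226, 262, 263]), (1, 151, 0, []),
   (0, 152, 0, [205, 223, 246, 262]), (1, 152, 0, []), (0, 164, 0, [191, 241, 263]), (1, 164, 0, []),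
   (0, 64, 0, []), (1, 64, 0, []), (0, 104, 0, []), (1, 104, 0, []),
   (0, 112, 0, [212, 223, 243, 261, 263]), (1, 112, 0, []), (0, 77, 0, []), (1, 77, 0, []),
   (0, 15, 0, [191, 224, 237, 260, 264]), (1, 15, 0, []), (0, 67, 0, [213, 240, 260, 264]), (1, 67, 0, [201, 247, 260, 263]),
   (0, 41, 0, []), (1, 41, 0, []), (0, 138, 0, [221, 224, 250, 262, 264]), (1, 138, 0, []),
   (0, 89, 0, [208, 223, 243, 261]), (1, 89, 0, [206, 228, 263]), (0, 159, 0, []), (1, 159, 0, [217, 223, 236, 259, 264]),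
   (0, 51, 0, [207, 223, 251, 256, 263]), (1, 51, 0, []), (0, 20, 0, []), (1, 20, 0, [219, 243]),
   (0, 49, 0, [204, 251, 263]), (1, 49, 0, [203, 236, 256, 263]), (0, 105, 0, [196, 224, 241, 259, 264]), (1, 105, 0, []),
   (0, 62, 0, [201, 223, 238, 258]), (1, 62, 0, [200, 224, 234, 261, 263]), (0, 21, 0, []), (1, 21, 0, []),
   (0, 26, 0, [221, 223, 232, 264]), (1, 26, 0, [195, 242, 258]), (0, 43, 0, []), (1, 43, 0, [196, 224, 249, 259, 264]),
   (0, 28, 0, []), (1, 28, 0, [214, 223, 240, 260]), (0, 14, 0, []), (1, 14, 0, [189, 224, 235, 256]),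
   (0, 6, 0, [223, 243, 261, 264]), (1, 6, 0, [215, 223, 251, 259]), (0, 130, 0, [222, 224, 254, 260, 264]), (1, 130, 0, []),
   (0, 47, 0, [188]), (1, 47, 0, [189, 227, 257, 263]), (0, 73, 0, [192, 235, 259, 263]), (1, 73, 0, []),
   (0, 46, 0, []), (1, 46, 0, [191, 223, 241, 260, 263]), (0, 4, 0, [204, 223, 255, 261, 264]), (1, 4, 0, []),
   (0, 141, 0, [212, 224, 251, 257, 264]), (1, 141, 0, [199, 224, 251, 260]), (0, 133, 0, []), (1, 133, 0, [190, 223, 233, 263]),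
   (0, 11, 0, []), (1, 11, 0, []), (0, 33, 0, [206, 224, 248, 259]), (1, 33, 0, [214, 237, 256, 264]),
   (0, 48, 0, [217, 223, 235, 261, 264]), (1, 48, 0, []), (0, 80, 0, [220, 223, 232, 256, 263]), (1, 80, 0, [204, 224, 244, 259, 263]),
   (0, 42, 0, []), (1, 42, 0, [213, 247, 264]), (0, 97, 0, [208, 223, 237, 261, 263]), (1, 97, 0, [196, 223, 254, 258, 264]),
   (0, 161, 0, [204, 224, 254, 257, 263]), (1, 161, 0, [217, 223, 248, 260, 263]), (0, 148, 0, []), (1, 148, 0, []),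
   (0, 13, 0, [201, 224, 249, 258, 263]), (1, 13, 0, []), (0, 30, 0, [188, 224, 251, 258]), (1, 30, 0, [250, 259]),
   (0, 59, 0, []), (1, 59, 0, []), (0, 137, 0, [209, 223, 226, 261]), (1, 137, 0, []),
   (0, 101, 0, [208, 223, 253, 256, 264]), (1, 101, 0, [222, 241, 258, 264]), (0, 12, 0, []), (1, 12, 0, []),
   (0, 88, 0, []), (1, 88, 0, [193, 227, 257, 264]), (0, 142, 0, []), (1, 142, 0, []),
   (0, 155, 0, [210, 224, 248, 256]), (1, 155, 0, []), (0, 144, 0, [201, 224, 248, 257]), (1, 144, 0, [191, 223, 234]),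
   (0, 106, 0, [198, 224, 229, 264]), (1, 106, 0, [205, 224, 248, 258]), (0, 124, 0, []), (1, 124, 0, [198, 223, 246, 261, 264]),
   (0, 38, 0, [219, 223, 238, 258, 264]), (1, 38, 0, [221, 224, 240, 258, 263]), (0, 122, 0, [197, 223, 254, 256, 264]), (1, 122, 0, [205, 223, 246, 263]),
   (0, 5, 0, [223, 236, 256]), (1, 5, 0, [218, 224, 238, 260]), (0, 154, 0, [221, 237, 260]), (1, 154, 0, [197, 232, 258, 263]),
   (0, 72, 0, [221, 256, 263]), (1, 72, 0, []), (0, 103, 0, []), (1, 103, 0, [214, 232, 263]),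
   (0, 157, 0, [192, 223, 244, 260]), (1, 157, 0, [212, 223, 235, 261]), (0, 129, 0, [207, 242, 260, 264]), (1, 129, 0, [189, 227, 261, 264]),
   (0, 71, 0, [189, 224, 227, 259, 264]), (1, 71, 0, [200, 224, 255, 261, 264]), (0, 123, 0, [193, 234, 258, 263]), (1, 123, 0, [221, 223, 234, 257]),
   (0, 111, 0, [198, 224, 226, 260, 263]), (1, 111, 0, [193, 223, 231, 261]), (0, 125, 0, []), (1, 125, 0, [192, 224, 239, 259, 263]),
   (0, 54, 0, [219, 224, 251, 261]), (1, 54, 0, [194, 224, 248, 256]), (0, 35, 0, [211, 224, 251, 257, 264]), (1, 35, 0, [193, 223, 243, 256, 263]),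
   (0, 91, 0, [203, 224, 243, 259]), (1, 91, 0, [198, 224, 234, 262, 264]), (0, 22, 0, [193, 224, 227, 257, 264]), (1, 22, 0, [220, 243, 262, 263]),
   (0, 158, 0, [209, 224, 236, 260, 264]), (1, 158, 0, [208, 224, 235, 257]), (0, 95, 0, [212, 239, 257]), (1, 95, 0, [213, 241, 260, 264]),
   (0, 109, 0, [206, 236, 257]), (1, 109, 0, []), (0, 99, 0, [189]), (1, 99, 0, [195, 223, 226, 262, 264]),
   (0, 93, 0, [191, 246, 260, 263]), (1, 93, 0, []), (0, 63, 0, []), (1, 63, 0, []),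
   (0, 65, 0, [220, 224, 241, 260]), (1, 65, 0, [201, 253, 259]), (0, 150, 0, [193, 248, 259]), (1, 150, 0, [214, 232, 260]),
   (0, 107, 0, []), (1, 107, 0, [216, 223, 239, 260, 263]), (0, 39, 0, []), (1, 39, 0, [202, 224, 256, 263]),
   (0, 147, 0, [205, 224, 227, 258]), (1, 147, 0, [207, 241, 259]), (0, 116, 0, [204, 223, 225, 256, 264]), (1, 116, 0, [203, 224, 225, 261]),
   (0, 140, 0, [219, 223, 255, 258]), (1, 140, 0, [217, 223, 250, 261, 263]), (0, 7, 0, [217, 223, 228, 262, 264]), (1, 7, 0, [215, 224, 243, 256, 264]),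
   (0, 25, 0, [220, 224, 245]), (1, 25, 0, [217, 223, 236, 258]), (0, 44, 0, [215, 229, 258, 264]), (1, 44, 0, [190, 223, 230, 256, 264]),
   (0, 53, 0, [196, 223, 246, 258]), (1, 53, 0, [218, 224, 242, 259, 263])]

/-- orbit of level 1 -/
def ptsP1 : List (ℕ × ℕ) :=
  [(15, 0), (16, 189), (118, 190), (24, 191), (110, 192), (109, 193), (81, 194), (114, 195), (90, 196), (82, 197),
   (76, 198), (25, 199), (86, 200), (72, 201), (34, 202), (80, 203), (26, 204), (36, 205), (20, 206), (51, 207),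
   (71, 208), (30, 209), (40, 210), (56, 211), (35, 212), (60, 213), (138, 214), (44, 215), (52, 216), (146, 217),
   (142, 218), (66, 219), (137, 220), (70, 221), (61, 222), (62, 223)]

/-- Schreier generators of level 1 -/
def schP1 : List (ℕ × ℕ × ℕ × List ℕ) :=
  [(2, 15, 0, []), (3, 15, 0, []), (2, 16, 0, []), (3, 16, 0, []),
   (2, 118, 0, []), (3, 118, 0, []), (2, 24, 0, [226, 260, 263]), (3, 24, 0, []),
   (2, 110, 0, [223, 240, 256, 264]), (3, 110, 0, []), (2, 109, 0, [224, 241, 258, 264]), (3, 109, 0, []),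
   (2, 81, 0, []), (3, 81, 0, []), (2, 114, 0, [224, 231, 256, 263]), (3, 114, 0, []),
   (2, 90, 0, []), (3, 90, 0, []), (2, 82, 0, []), (3, 82, 0, []),
   (2, 76, 0, []), (3, 76, 0, []), (2, 25, 0, []), (3, 25, 0, [225, 261]),
   (2, 86, 0, []), (3, 86, 0, []), (2, 72, 0, []), (3, 72, 0, [223, 252, 262, 264]),
   (2, 34, 0, []), (3, 34, 0, [237, 257]), (2, 80, 0, []), (3, 80, 0, [224, 235, 259, 264]),
   (2, 26, 0, []), (3, 26, 0, [253, 263]), (2, 36, 0, [226, 260, 263]), (3, 36, 0, [223, 230, 258]),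
   (2, 20, 0, [224, 231, 263]), (3, 20, 0, [223, 245, 259, 264]), (2, 51, 0, []), (3, 51, 0, [223, 232, 258]),
   (2, 71, 0, []), (3, 71, 0, [224, 246, 258, 264]), (2, 30, 0, []), (3, 30, 0, [225, 260, 263]),
   (2, 40, 0, [226, 260, 263]), (3, 40, 0, [224, 234, 257]), (2, 56, 0, []), (3, 56, 0, [223]),
   (2, 35, 0, [226, 260, 263]), (3, 35, 0, [223, 234, 262, 264]), (2, 60, 0, []), (3, 60, 0, [224, 225, 260, 264]),
   (2, 138, 0, [226, 260, 263]), (3, 138, 0, []), (2, 44, 0, [226, 260, 263]), (3, 44, 0, [251, 256]),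
   (2, 52, 0, []), (3, 52, 0, [224, 239, 260, 263]), (2, 146, 0, [226, 260, 263]), (3, 146, 0, []),
   (2, 142, 0, [226, 260, 263]), (3, 142, 0, []), (2, 66, 0, [233, 261, 263]), (3, 66, 0, [224, 237, 257]),
   (2, 137, 0, [226, 260, 263]), (3, 137, 0, []), (2, 70, 0, [223, 242, 256, 263]), (3, 70, 0, [224, 242, 258]),
   (2, 61, 0, [224, 234, 258, 264]), (3, 61, 0, [255]), (2, 62, 0, [224, 229, 260, 263]), (3, 62, 0, [223, 225])]

/-- orbit of level 2 -/
def ptsP2 : List (ℕ × ℕ) :=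
  [(16, 0), (24, 224), (20, 225)]

/-- Schreier generators of level 2 -/
def schP2 : List (ℕ × ℕ × ℕ × List ℕ) :=
  [(4, 16, 0, []), (5, 16, 0, [225]), (4, 24, 0, []), (5, 24, 0, [238, 262, 263]),
   (4, 20, 0, [225, 263]), (5, 20, 0, [226])]

/-- orbit of level 3 -/
def ptsP3 : List (ℕ × ℕ) :=
  [(1, 0), (125, 226), (2, 227), (46, 228), (164, 229), (128, 230), (19, 231), (96, 232), (127, 233), (95, 234),
   (49, 235), (161, 236), (48, 237), (17, 238), (47, 239), (92, 240), (163, 241), (126, 242), (21, 243), (91, 244),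
   (93, 245), (130, 246), (45, 247), (129, 248), (160, 249), (23, 250), (94, 251), (18, 252), (162, 253), (159, 254),
   (50, 255), (22, 256)]

/-- Schreier generators of level 3 -/
def schP3 : List (ℕ × ℕ × ℕ × List ℕ) :=
  [(6, 1, 0, []), (7, 1, 0, []), (8, 1, 0, [263]), (6, 125, 0, []),
   (7, 125, 0, []), (8, 125, 0, [260]), (6, 2, 0, []), (7, 2, 0, [260, 263]),
   (8, 2, 0, [257]), (6, 46, 0, []), (7, 46, 0, [261, 263]), (8, 46, 0, []),
   (6, 164, 0, []), (7, 164, 0, [261, 263]), (8, 164, 0, []), (6, 128, 0, []),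
   (7, 128, 0, []), (8, 128, 0, [259]), (6, 19, 0, []), (7, 19, 0, []),
   (8, 19, 0, [263]), (6, 96, 0, []), (7, 96, 0, []), (8, 96, 0, [260, 263]),
   (6, 127, 0, [260, 263]), (7, 127, 0, []), (8, 127, 0, []), (6, 95, 0, []),
   (7, 95, 0, []), (8, 95, 0, [260, 263]), (6, 49, 0, []), (7, 49, 0, []),
   (8, 49, 0, []), (6, 161, 0, []), (7, 161, 0, [261, 263]), (8, 161, 0, [260]),
   (6, 48, 0, [261, 263]), (7, 48, 0, [260, 263]), (8, 48, 0, [260]), (6, 17, 0, []),
   (7, 17, 0, [260, 263]), (8, 17, 0, [257]), (6, 47, 0, [263]), (7, 47, 0, []),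
   (8, 47, 0, []), (6, 92, 0, []), (7, 92, 0, []), (8, 92, 0, [258, 264]),
   (6, 163, 0, [260, 263]), (7, 163, 0, []), (8, 163, 0, [262, 263]), (6, 126, 0, []),
   (7, 126, 0, []), (8, 126, 0, [260, 263]), (6, 21, 0, []), (7, 21, 0, [258]),
   (8, 21, 0, [260, 263]), (6, 91, 0, [258, 264]), (7, 91, 0, [258, 263]), (8, 91, 0, [263]),
   (6, 93, 0, []), (7, 93, 0, [262]), (8, 93, 0, [261, 263]), (6, 130, 0, [260, 263]),
   (7, 130, 0, [263]), (8, 130, 0, [261, 264]), (6, 45, 0, [256]), (7, 45, 0, [260, 263]),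
   (8, 45, 0, [259]), (6, 129, 0, []), (7, 129, 0, [258, 264]), (8, 129, 0, [256, 264]),
   (6, 160, 0, [260]), (7, 160, 0, [260]), (8, 160, 0, [260, 263]), (6, 23, 0, [256, 264]),
   (7, 23, 0, [258, 263]), (8, 23, 0, []), (6, 94, 0, [258]), (7, 94, 0, [260, 263]),
   (8, 94, 0, [259]), (6, 18, 0, [257, 263]), (7, 18, 0, [260]), (8, 18, 0, [258]),
   (6, 162, 0, [257, 263]), (7, 162, 0, [262]), (8, 162, 0, [258, 264]), (6, 159, 0, [260, 263]),
   (7, 159, 0, [256, 264]), (8, 159, 0, [260]), (6, 50, 0, [257]), (7, 50, 0, [261]),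
   (8, 50, 0, [259, 264]), (6, 22, 0, [258]), (7, 22, 0, [256, 263]), (8, 22, 0, [261])]

/-- orbit of level 4 -/
def ptsP4 : List (ℕ × ℕ) :=
  [(3, 0), (121, 257), (148, 258), (9, 259), (153, 260), (99, 261), (104, 262), (131, 263)]

/-- Schreier generators of level 4 -/
def schP4 : List (ℕ × ℕ × ℕ × List ℕ) :=
  [(9, 3, 0, []), (10, 3, 0, []), (9, 121, 0, []), (10, 121, 0, [263]),
   (9, 148, 0, []), (10, 148, 0, [263]), (9, 9, 0, []), (10, 9, 0, []),
   (9, 153, 0, []), (10, 153, 0, [264]), (9, 99, 0, []), (10, 99, 0, [263]),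
   (9, 104, 0, []), (10, 104, 0, [263]), (9, 131, 0, []), (10, 131, 0, [264])]

/-- orbit of level 5 -/
def ptsP5 : List (ℕ × ℕ) :=
  [(45, 0), (46, 264), (47, 265)]

/-- Schreier generators of level 5 -/
def schP5 : List (ℕ × ℕ × ℕ × List ℕ) :=
  [(11, 45, 0, []), (11, 46, 0, []), (11, 47, 0, [])]

/-- the chain -/
noncomputable def dataP : CfsgLib.Schur.MonoCover.Data where
  m := 165
  c := 1
  ng := 12
  nU := 241
  tab := elTabP
  defs n := elDefP.getD n (0, 0)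
  nlev := 6
  base k := [0, 15, 16, 1, 3, 45].getD k 0
  gens k := [[0, 1], [2, 3], [4, 5], [6, 7, 8], [9, 10], [11]].getD k []
  pts k := [ptsP0, ptsP1, ptsP2, ptsP3, ptsP4, ptsP5].getD k []
  sch k := [schP0, schP1, schP2, schP3, schP4, schP5].getD k []
  pick k := [[(2, 0, 47, 0), (3, 0, 99, 0)], [(4, 3, 56, 0), (5, 3, 62, 0)], [(6, 5, 16, 0), (7, 5, 20, 0), (8, 4, 20, 0)], [(9, 6, 45, 0), (10, 8, 2, 0)], [(11, 10, 121, 0)], []].getD k []

end CfsgLib.USixMult
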